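import Cfsg.Agent.Omega.OM.SwapV.MainZ

/-!
# THEOREM SW over an abstract `V` at the levels `n ≥ 0`

* `LnV S V Q n L W Z C A` : `FrL (BL S n) Q V (Ω₁Z(lev S n)) (ZL S n) L W Z C A 2`, `G` of characteristic 2 type,
  `V ≤ O₂(C_G(Ω₁Z(S)))`, and `V`, `V^f` commute if `V^f ≤ T`, `V ≤ T^f` for a 2-group `T ≥ B`;
* `LnV.crA` : the abstract frame `CrA`;
* `noff_of_nff`, `noff_of_sup` : the last field from "mutually normalising conjugates commute", for `V` itself, or for
  `S`-invariant subgroups `U k` with `V = ⟨U k⟩` (box R: the `V_P`).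
-/

set_option autoImplicit false
set_option linter.unusedSectionVars false

namespace Cfsg.Agent.Omega.OM.SwapV

open Subgroup Cfsg Cfsg.Agent.ZN.ChoiceBase Cfsg.Agent.ZN.ChoiceSit
open Cfsg.Agent.ZN (jj zj bau zc zl o2)
open Cfsg.Agent.MinSimple.MinParabolic (IsMinPar)
open Cfsg.Agent.Omega.NO3S.Level (lev Lev lev_isLev BO nxt)
open Cfsg.Agent.Omega.OM.LevD (LB)
open Cfsg.Agent.Omega.OM.WeakCl (WC)
open Cfsg.Agent.Omega.OM.Lev.Uni (FrL)
open Cfsg.Agent.Omega.OM.Swap.Fam (Fm BF fm_AA fm_best)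
open Cfsg.Agent.Omega.OM.SwapL (BL ZL lb wc norm_lev zc_elab)

universe u

variable {G : Type u} [Group G] [Finite G]

/-! ### The no-FF field -/

/-- a 2-group over `B` lies in a conjugate of `S` under `N_G(B)` -/
theorem exists_cj_S {S : Sylow 2 G} {B : Subgroup G} (hwc : WC B) (hBS : B ≤ (S : Subgroup G)) {T : Subgroup G}
    (hT : IsPGroup 2 T) (hB : B ≤ T) : ∃ g ∈ normalizer (B : Set G), T ≤ cj g (S : Subgroup G) := by
  obtain ⟨S', hS'⟩ := hT.exists_le_sylow
  obtain ⟨g, hg⟩ := MulAction.exists_smul_eq G S S'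
  have hg2 : (S' : Subgroup G) = cj g (S : Subgroup G) := by
    rw [← hg, Sylow.coe_subgroup_smul]
    rfl
  have h1 : cj g⁻¹ B ≤ (S : Subgroup G) := by
    have := cj_mono g⁻¹ ((hB.trans hS').trans hg2.le)
    rwa [cj_inv_cj] at this
  have h2 := hwc _ S.isPGroup' hBS _ h1
  have h3 := inv_mem (mem_normalizer_iff_cj.2 h2)
  rw [inv_inv] at h3
  exact ⟨g, h3, hS'.trans hg2.le⟩

/-- from `V` itself -/
theorem noff_of_nff {B V : Subgroup G} (htn : ∀ T : Subgroup G, IsPGroup 2 T → B ≤ T → T ≤ normalizer (V : Set G))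
    (nff : ∀ g : G, V ≤ normalizer ((cj g V : Subgroup G) : Set G) → cj g V ≤ normalizer (V : Set G) →
      ∀ x ∈ V, ∀ y ∈ cj g V, x * y = y * x) :
    ∀ T : Subgroup G, IsPGroup 2 T → B ≤ T → ∀ f : G, cj f V ≤ T → V ≤ cj f T →
      ∀ x ∈ V, ∀ y ∈ V, x * (f * y * f⁻¹) = f * y * f⁻¹ * x := by
  intro T hT hB f h1 h2 x hx y hy
  refine nff f ?_ (h1.trans (htn T hT hB)) x hx _ ⟨y, hy, rfl⟩
  have h3 := cj_mono f (htn T hT hB)
  rw [cj_normalizer] at h3
  exact h2.trans h3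

/-- from `S`-invariant subgroups `U k`, `V = ⟨U k⟩` -/
theorem noff_of_sup {S : Sylow 2 G} {B V : Subgroup G} (hwc : WC B) (hBS : B ≤ (S : Subgroup G))
    (hN : ∀ g ∈ normalizer (B : Set G), cj g V = V) {κ : Sort*} {U : κ → Subgroup G} (hV : V = ⨆ k, U k)
    (hS : ∀ k, (S : Subgroup G) ≤ normalizer (U k : Set G))
    (nff : ∀ k l, ∀ g : G, U k ≤ normalizer ((cj g (U l) : Subgroup G) : Set G) →
      cj g (U l) ≤ normalizer (U k : Set G) → ∀ x ∈ U k, ∀ y ∈ cj g (U l), x * y = y * x) :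
    ∀ T : Subgroup G, IsPGroup 2 T → B ≤ T → ∀ f : G, cj f V ≤ T → V ≤ cj f T →
      ∀ x ∈ V, ∀ y ∈ V, x * (f * y * f⁻¹) = f * y * f⁻¹ * x := by
  intro T hT hB f h1 h2 x hx y hy
  obtain ⟨g, hg, hTg⟩ := exists_cj_S hwc hBS hT hB
  have hgV := hN g hg
  have e1 : V = ⨆ k, cj g (U k) := by
    have h3 : cj g V = ⨆ k, cj g (U k) := by
      rw [hV]
      exact Subgroup.map_iSup _ _
    rw [← h3, hgV]
  have e2 : cj f V = ⨆ k, cj f (cj g (U k)) := by
    have h3 : cj f (⨆ k, cj g (U k)) = ⨆ k, cj f (cj g (U k)) := Subgroup.map_iSup _ _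
    rw [← h3, ← e1]
  have key : V ≤ centralizer ((cj f V : Subgroup G) : Set G) := by
    have h4 : (⨆ k, cj g (U k)) ≤ centralizer ((cj f V : Subgroup G) : Set G) := by
      refine iSup_le fun k => ?_
      rw [le_centralizer_iff, e2]
      refine iSup_le fun l => ?_
      -- `U k ^ g` and `U l ^ (f g)`
      have hk : cj g (U k) ≤ V := e1 ▸ le_iSup (fun k => cj g (U k)) k
      have hl : cj f (cj g (U l)) ≤ cj f V := cj_mono f (e1 ▸ le_iSup (fun k => cj g (U k)) l)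
      have n1 : cj f (cj g (U l)) ≤ normalizer ((cj g (U k) : Subgroup G) : Set G) := by
        have h5 := cj_mono g (hS k)
        rw [cj_normalizer] at h5
        exact ((hl.trans h1).trans hTg).trans h5
      have n2 : cj g (U k) ≤ normalizer ((cj f (cj g (U l)) : Subgroup G) : Set G) := by
        have h6 := cj_mono g (hS l)
        rw [cj_normalizer] at h6
        have h5 := cj_mono f (hTg.trans h6)
        rw [cj_normalizer] at h5
        exact (hk.trans h2).trans h5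
      intro y hy
      rw [mem_centralizer_iff]
      intro x hx
      have n1' : cj (g⁻¹ * f * g) (U l) ≤ normalizer (U k : Set G) := by
        have h5 := cj_mono g⁻¹ n1
        rw [cj_normalizer, cj_inv_cj, cj_cj, cj_cj] at h5
        exact h5
      have n2' : U k ≤ normalizer ((cj (g⁻¹ * f * g) (U l) : Subgroup G) : Set G) := by
        have h5 := cj_mono g⁻¹ n2
        rw [cj_normalizer, cj_inv_cj, cj_cj, cj_cj] at h5
        exact h5
      have h6 := nff k l _ n2' n1' (g⁻¹ * x * g) (mem_cj.1 hx) (g⁻¹ * y * g) (by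
        rw [← cj_cj, ← cj_cj, mem_cj]
        have e : g⁻¹⁻¹ * (g⁻¹ * y * g) * g⁻¹ = y := by group
        rwa [e])
      have h7 := congrArg (fun t => g * t * g⁻¹) h6
      have e3 : g * (g⁻¹ * x * g * (g⁻¹ * y * g)) * g⁻¹ = x * y := by group
      have e4 : g * (g⁻¹ * y * g * (g⁻¹ * x * g)) * g⁻¹ = y * x := by group
      exact (e3.symm.trans h7).trans e4
    rwa [← e1] at h4
  exact (mem_centralizer_iff.1 (key hx) _ ⟨y, hy, rfl⟩).symm

/-! ### The ground frame -/

/-- The ground frame at stage `n`, abstract `V`. -/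
structure LnV {ι : Type} (S : Sylow 2 G) (V Q : Subgroup G) (n : ℕ) (L W Z C A : ι → Subgroup G) : Prop where
  fr : FrL (BL (S : Subgroup G) n) Q V (zc (lev (S : Subgroup G) n)) (ZL (S : Subgroup G) n) L W Z C A 2
  char2 : IsCharacteristicTwoType G
  low : V ≤ o2 (centralizer (zc (S : Subgroup G) : Set G))
  noff : ∀ T : Subgroup G, IsPGroup 2 T → BL (S : Subgroup G) n ≤ T → ∀ f : G, cj f V ≤ T → V ≤ cj f T →
    ∀ x ∈ V, ∀ y ∈ V, x * (f * y * f⁻¹) = f * y * f⁻¹ * x

namespace LnV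

variable {ι : Type} [Finite ι] {S : Sylow 2 G} {V Q : Subgroup G} {n : ℕ} {L W Z C A : ι → Subgroup G}

/-- **(U1)** -/
theorem norm (h : LnV S V Q n L W Z C A) {g : G} (hg : g ∈ normalizer (BL (S : Subgroup G) n : Set G)) :
    cj g V = V ∧ ∀ i, ∃ j, cj g (Z i) = Z j ∧ cj g (W i) ≤ W j ⊔ ZL (S : Subgroup G) n :=
  h.fr.norm_of hg (NO3S.Level.normalizer_le_zc _ (norm_lev S (by omega) hg))

/-- `lev S n` centralises `V` -/
theorem comm_V (h : LnV S V Q n L W Z C A) {a v : G} (ha : a ∈ lev (S : Subgroup G) n) (hv : v ∈ V) :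
    a * v = v * a := (mem_zc.1 (h.fr.VX hv)).2.2 a ha

theorem V_le_X (h : LnV S V Q n L W Z C A) {s : ℕ} (hs : s ≤ n) : V ≤ zc (lev (S : Subgroup G) s) :=
  h.fr.VX.trans ((lev_isLev (S : Subgroup G) s).zc_le_zc (NO3S.Level.lev_mono _ hs)
    (NO3S.Level.lev_le (S : Subgroup G) n))

/-- the family of a pair -/
theorem exists_fam (h : LnV S V Q n L W Z C A) {M T F : Subgroup G}
    (hp : Pair (lev (S : Subgroup G) (n + 1)) (BL (S : Subgroup G) n) V (ZL (S : Subgroup G) n) M T F)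
    (hD : centralizer (ZL (S : Subgroup G) n : Set G) ≤ M)
    (hZM : normalizer (ZL (S : Subgroup G) n : Set G) ≤ M) (hTM : T ≤ M) :
    ∃ 𝓐 : Set (Subgroup G), PF (BL (S : Subgroup G) n) V T F W 𝓐 := by
  classical
  have hT2 := hp.syl.2.1
  have hKT : lev (S : Subgroup G) (n + 1) ≤ T := (lb S n).KB.trans hp.BT
  have h0T : jj (S : Subgroup G) ≤ T :=
    (NO3S.Level.lev_mono (S : Subgroup G) (Nat.zero_le (n + 1))).trans hKT
  have hnK : ¬ lev (S : Subgroup G) (n + 1) ≤ o2 F := fun hle =>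
    hp.nM ((le_normalizer_o2 F).trans (((lb S n).nrm _ (isPGroup_o2 F) hle).trans hZM))
  have hmp : IsMinPar T F := by
    refine ⟨hp.syl.1, fun hle => ?_, F ⊓ M, lt_of_le_of_ne inf_le_left fun e => hp.nM (inf_eq_left.1 e),
      fun R hTR hRF => le_inf hRF.le (hp.min R hTR hRF)⟩
    apply hnK
    exact ((lb S n).KB.trans hp.BT).trans (le_o2 hp.syl.2.1 hp.syl.1 hle)
  have hstg : ¬ jj (S : Subgroup G) ≤ o2 F ∨ ∃ s, s ≤ n ∧ lev (S : Subgroup G) s ≤ o2 F ∧
      ¬ lev (S : Subgroup G) (s + 1) ≤ o2 F := by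
    by_cases h0 : jj (S : Subgroup G) ≤ o2 F
    · right
      have hex : ∃ m, ¬ lev (S : Subgroup G) m ≤ o2 F := ⟨n + 1, hnK⟩
      obtain ⟨m, hm, hmin⟩ : ∃ m, ¬ lev (S : Subgroup G) m ≤ o2 F ∧ ∀ k, k < m → lev (S : Subgroup G) k ≤ o2 F :=
        ⟨Nat.find hex, Nat.find_spec hex, fun k hk => by
          by_contra hcon
          exact Nat.find_min hex hk hcon⟩
      have hmn : m ≤ n + 1 := by
        by_contra hcon
        exact hnK (hmin (n + 1) (by omega))
      obtain ⟨s, rfl⟩ : ∃ s, m = s + 1 := by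
        refine ⟨m - 1, ?_⟩
        have : m ≠ 0 := by
          rintro rfl
          exact hm h0
        omega
      exact ⟨s, by omega, hmin s (by omega), hm⟩
    · exact Or.inl h0
  rcases hstg with hJ | ⟨s, hs, hlow, hnle⟩
  · -- stage `-1`
    have hjT : jj T = jj (S : Subgroup G) := MinSimple.EmptyTI.jj_eq S hT2 h0T
    have hX2 : ∀ X ∈ AA F, X ≤ T → X ≤ lev (S : Subgroup G) n := fun X hX hXT => by
      have h1 : X ≤ lev (S : Subgroup G) 0 := by
        have := le_jj (Swap.AA_of_le hX hXT hp.syl.1)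
        rwa [hjT] at this
      exact h1.trans (NO3S.Level.lev_mono _ (Nat.zero_le n))
    refine ⟨AA F, fun Λ hΛ hΛF hn _ => fm_AA hΛ hΛF hn, ?_, fun X hX hXT =>
      ((hX2 X hX hXT).trans (NO3S.Level.lev_mono _ (Nat.le_succ n))).trans (lb S n).KB, fun X hX hXT i hi => ?_⟩
    · by_contra hcon
      push Not at hcon
      apply hJ
      rw [← hjT, Cfsg.Agent.ZN.ChoiceBase.jj_eq]
      exact sSup_le fun X hX => hcon X (Swap.AA_of_syl hp.syl hX) hX.2.1
    · obtain ⟨a, ha, x, hx, hne⟩ := hi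
      exact absurd (h.comm_V (hX2 X hX hXT ha) (h.fr.WV i hx)) hne
  · -- stage `s`
    have hX := zc_elab (lev (S : Subgroup G) s)
    have hFN : F ≤ normalizer (zc (lev (S : Subgroup G) s) : Set G) :=
      (le_normalizer_o2 F).trans ((LB.lev S s).nrm _ (isPGroup_o2 F) hlow)
    have hlev : ∀ j, j ≤ n + 1 → lev T j = lev (S : Subgroup G) j := LevD.lev_eq S hT2 hKT
    have hVX := V_le_X h hs
    have hX1 : ∀ X ∈ BF F (zc (lev (S : Subgroup G) s)), X ≤ T → X ≤ lev (S : Subgroup G) (s + 1) :=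
      fun X hXA hXT => by
        rw [← hlev (s + 1) (by omega)]
        have e : lev T (s + 1) = nxt T (lev T s) := rfl
        rw [e, hlev s (by omega)]
        exact NO3S.Level.BO.le_nxt ⟨hXT, hXA.2.2⟩
    refine ⟨BF F (zc (lev (S : Subgroup G) s)), fun Λ hΛ hΛF hn hle => fm_best hX hFN ?_ hn, ?_,
      fun X hXA hXT => ((hX1 X hXA hXT).trans (NO3S.Level.lev_mono _ (by omega))).trans (lb S n).KB,
      fun X hXA hXT i hi => ?_⟩
    · refine hle.trans (NoFF.Basic.V_le fun f hf => ?_)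
      have h1 := cj_mono f hVX
      rwa [cj_eq_of_mem_normalizer (hFN hf)] at h1
    · by_contra hcon
      push Not at hcon
      apply hnle
      rw [← hlev (s + 1) (by omega)]
      have e : lev T (s + 1) = nxt T (lev T s) := rfl
      rw [e, hlev s (by omega)]
      have : Fact (Nat.Prime 2) := ⟨Nat.prime_two⟩
      have hNn : F ≤ normalizer ((F ⊓ centralizer (zc (lev (S : Subgroup G) s) : Set G) : Subgroup G) : Set G) := by
        intro f hf
        rw [mem_normalizer_iff_cj, cj_inf, cj_centralizer, cj_eq_of_mem_normalizer (hFN hf),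
          cj_eq_of_mem_normalizer (le_normalizer hf)]
      refine sup_le ?_ (sSup_le fun X hX' => hcon X ⟨hX'.1.trans hp.syl.1, hT2.to_le hX'.1, hX'.2⟩ hX'.1)
      rcases hmp.sup_eq_or_inf_le (p := 2) hT2 (syl_not_dvd hp.syl)
        (N := F ⊓ centralizer (zc (lev (S : Subgroup G) s) : Set G)) inf_le_left hNn with h1 | h1
      · exfalso
        apply hp.nM
        rw [← h1]
        refine sup_le ((inf_le_right.trans (centralizer_le ?_)).trans hD) hTM
        exact_mod_cast h.fr.ZJV.trans hVX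
      · refine le_trans (fun x hx => ?_) h1
        exact ⟨hx.1, hp.syl.1 hx.1, hx.2⟩
    · rcases hs.lt_or_eq with hlt | rfl
      · obtain ⟨a, ha, x, hx, hne⟩ := hi
        exact absurd (h.comm_V (NO3S.Level.lev_mono (S : Subgroup G) (by omega : s + 1 ≤ n) (hX1 X hXA hXT ha))
          (h.fr.WV i hx)) hne
      · refine SwapL.hat h.fr (((hX1 X hXA hXT)).trans (lb S s).KB) ?_ hi
        exact fun F' h1 h2 => hXA.2.2.max F' h2 h1

/-- **The abstract frame at stage `n`.** -/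
theorem crA (h : LnV S V Q n L W Z C A) :
    CrA S (lev (S : Subgroup G) (n + 1)) (BL (S : Subgroup G) n) V (ZL (S : Subgroup G) n) L W Z C A where
  lb := lb S n
  wc := wc S n
  zcS := (lev_isLev (S : Subgroup G) (n + 1)).zc_le
  zcB := h.fr.zcB
  blk := h.fr.blk
  cardZ := h.fr.cardZ
  el := h.fr.el
  VB := h.fr.VQ.trans h.fr.QB
  ZJV := h.fr.ZJV
  WV := h.fr.WV
  CV := h.fr.CV
  dir := h.fr.dir
  C0 := h.fr.C0
  WjC := h.fr.WjC
  split := fun i _ hz => h.fr.split_ZJ i hz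
  LC := h.fr.LC
  mov := fun i => by
    have h2 := h.fr.Ane i
    push Not at h2
    obtain ⟨a, ha, v, hv, hne⟩ := h2
    exact ⟨a, h.fr.AB i ha, ⟨v, hv, hne⟩, h.fr.AC i a ha⟩
  conjZ := fun r _ hx => SwapL.conj_ZJ h.fr r hx
  norm := fun _ hg => h.norm hg
  char2 := h.char2
  low := h.low
  noff := h.noff
  fixPt := fun T Y hq =>
    inf_le_right.trans (LevD.fixPt S hq.syl ((lb S n).KB.trans hq.BT) hq.min hq.nK hq.cz)
  fam := fun _ _ _ hp hD hZM hTM => h.exists_fam hp hD hZM hTM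
  WC := h.fr.WC
  AB := h.fr.AB
  Ane := h.fr.Ane
  AC := h.fr.AC
  fmem := fun _ hv hA => h.fr.mem_ZJ_of hv hA
  fnWr := fun _ _ hi _ hl _ hx => SwapL.nWr h.fr hi hl hx
  fstep := fun i _ hv => SwapL.step h.fr i hv
  fkeep := fun _ _ hij _ hl _ hv hj => SwapL.keep h.fr hij hl hv hj

end LnV

end Cfsg.Agent.Omega.OM.SwapV
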