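import Cfsg.Agent.Omega.OM.Swap.Pair
import Cfsg.Agent.Omega.OM.Swap.Perm

/-!
# THEOREM SW, stage `-1`, over an abstract line `V` (box R, bb #24115): the frame, pairs, supports

`LineV S Q V L W Z C A q` : `G` of characteristic 2 type, the frame `Uni.Fr` over `B = bau S` with module `V` (no minimal
parabolic `P`), at least two blocks, `V ≤ O₂(C_G(Z))`, `V` and `V^g` commute if `V^g ≤ T`, `V ≤ T^g` for some 2-group
`T ≥ B`.

* `LineV.norm` : `N_G(B) ≤ N_G(V)`;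
* `exists_pair` : pairs `(T, F)`;
* `perm`, `exists_supp`, `comm_of_supp` (`q = 2`).
-/

set_option autoImplicit false
set_option linter.unusedSectionVars false

namespace Cfsg.Agent.Omega.OM.SwapV.NegPair

open Subgroup Cfsg Cfsg.Agent.ZN.ChoiceBase Cfsg.Agent.ZN.ChoiceSit
open Cfsg.Agent.ZN (jj zj bau zc zl o2)
open Cfsg.Agent.MinSimple.MinParabolic (IsMinPar)
open Cfsg.Agent.MinSimple.VModule (oddGen oddGen_le)
open Cfsg.Agent.Omega.OM.Dich (K0 Fam)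
open Cfsg.Agent.Omega.OM.BlkGen (FBlk)
open Cfsg.Agent.Omega.OM.Uni (FB Fr)
open Cfsg.Agent.Omega.OM.UniPlus (NB)
open Cfsg.Agent.Omega.OM.Swap (zj_le_bau norm_jj_le cj_mul_eq cj_inv_eq zj_cj_mem)

universe u

variable {G : Type u} [Group G] [Finite G]

/-- The line `V` with several blocks over `B = bau S`. -/
structure LineV {ι : Type} (S : Sylow 2 G) (Q V : Subgroup G) (L W Z C A : ι → Subgroup G) (q : ℕ) : Prop where
  ch : IsCharacteristicTwoType G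
  ne : (S : Subgroup G) ≠ ⊥
  low : V ≤ o2 (FrameNOFF.CZ (S : Subgroup G))
  nff : ∀ T : Subgroup G, IsPGroup 2 T → bau (S : Subgroup G) ≤ T → ∀ g : G, cj g V ≤ T → V ≤ cj g T →
    ∀ x ∈ V, ∀ y ∈ cj g V, x * y = y * x
  fr : Fr (bau (S : Subgroup G)) Q V (zj (S : Subgroup G)) L W Z C A q (mm (S : Subgroup G))
  two : ∀ i : ι, ∃ j, j ≠ i

/-- The pairs `(T, F)` of STEP 0. -/
structure Pair (S : Sylow 2 G) (V M T F : Subgroup G) : Prop where
  syl : Syl T F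
  BT : bau (S : Subgroup G) ≤ T
  nM : ¬ F ≤ M
  min : ∀ K : Subgroup G, T ≤ K → K < F → K ≤ M
  nJ : ¬ jj (S : Subgroup G) ≤ o2 F
  VO : V ≤ o2 F
  fix : zj (S : Subgroup G) ⊓ centralizer (o2 F : Set G) ≤ centralizer (F : Set G)

section line

variable {ι : Type} [Finite ι] {S : Sylow 2 G} {Q V : Subgroup G} {L W Z C A : ι → Subgroup G} {q : ℕ}

theorem V_le_bau (h : LineV S Q V L W Z C A q) : V ≤ bau (S : Subgroup G) := h.fr.VQ.trans h.fr.QB

/-- `B` normalises `V` -/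
theorem bau_norm (h : LineV S Q V L W Z C A q) : bau (S : Subgroup G) ≤ normalizer (V : Set G) := by
  rw [h.fr.V_eq]
  intro b hb
  rw [mem_normalizer_iff_cj]
  have key : ∀ b ∈ bau (S : Subgroup G), cj b (⨆ i, W i) ≤ ⨆ i, W i := by
    intro b hb
    have e1 : cj b (⨆ i, W i) = ⨆ i, cj b (W i) := Subgroup.map_iSup _ _
    rw [e1]
    refine iSup_le fun i => ?_
    rintro _ ⟨w, hw, rfl⟩
    exact mem_iSup_of_mem i ((h.fr.blk i).toMd.BV hb hw)
  exact Subgroup.eq_of_le_of_card_ge (key b hb) (by rw [card_cj])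

/-- **(U1)** -/
theorem LineV.norm (h : LineV S Q V L W Z C A q) {g : G} (hg : g ∈ normalizer (bau (S : Subgroup G) : Set G)) :
    cj g V = V ∧ ∀ i, ∃ j, cj g (Z i) = Z j ∧ cj g (W i) ≤ W j ⊔ zj (S : Subgroup G) := by
  have hgB := cj_eq_of_mem_normalizer hg
  refine h.fr.norm_of hg fun w hw v hv =>
    (h.nff _ (S.isPGroup'.to_le (bau_le _)) le_rfl g ?_ ?_ v hv w hw).symm
  · have h1 := cj_mono g (V_le_bau h)
    rwa [hgB] at h1
  · rw [hgB]
    exact V_le_bau h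

theorem LineV.norm_le (h : LineV S Q V L W Z C A q) :
    normalizer (bau (S : Subgroup G) : Set G) ≤ normalizer (V : Set G) := fun g hg => by
  rw [mem_normalizer_iff_cj]
  exact (h.norm hg).1

omit [Finite ι] in
theorem LineV.fblk (h : LineV S Q V L W Z C A q) (i : ι) : FBlk (S : Subgroup G) (L i) (W i) where
  fb := ⟨_, _, h.fr.blk i⟩
  blk := (h.fr.blk i).toBlock (h.fr.cardZ i) (S.isPGroup'.to_le (bau_le _)) (weakNormal S)

theorem LineV.fam (h : LineV S Q V L W Z C A q) : Fam S (FBlk (S : Subgroup G)) := by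
  refine BlkGen.fam ?_
  refine (h.fr.ZJV.trans h.fr.V_eq.le).trans (iSup_le fun i => ?_)
  exact le_iSup (fun i : {x : Subgroup G × Subgroup G // FBlk (S : Subgroup G) x.1 x.2} => i.1.2)
    ⟨(L i, W i), h.fblk i⟩

/-- **UNI+** -/
theorem LineV.uniPlus (h : LineV S Q V L W Z C A q) {L' V' Z' : Subgroup G} {q' : ℕ}
    (h' : FB (bau (S : Subgroup G)) L' V' Z' q') :
    q' = q ∧ ∃ i, Z' = Z i ∧ NB (bau (S : Subgroup G)) L' V' (Z i) q ∧
      ((V' ≤ W i ⊔ zj (S : Subgroup G) ∧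
          (∀ z ∈ zj (S : Subgroup G), z ∈ C i ↔ ∀ l ∈ L', l * z = z * l) ∧
          (q = 2 → V' = W i ∧ L' ≤ L i ⊔ centralizer ((W i ⊔ zj (S : Subgroup G) : Subgroup G) : Set G))) ∨
        (q = 2 ∧ Nat.card (zj (S : Subgroup G)) = 4 ∧ (∃ w' ∈ V', ∃ w ∈ W i, w' * w ≠ w * w') ∧
          ∃ c ∈ zj (S : Subgroup G), c ≠ 1 ∧ (∀ l ∈ L', l * c = c * l) ∧ ∀ k, c ∉ C k)) := by
  refine UniPlus.uniPlus' h.ch h.fr (S.isPGroup'.to_le (bau_le _)) (UniPlus.wc_bau S)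
    (fun g hg w hw v hv => ?_) h.two h'
  rw [(h.norm hg).1] at hw
  exact h.fr.Vc hw hv

/-- a 2-group over `B` normalises `V`. -/
theorem two_norm (h : LineV S Q V L W Z C A q) {T : Subgroup G} (hT : IsPGroup 2 T)
    (hB : bau (S : Subgroup G) ≤ T) : T ≤ normalizer (V : Set G) :=
  (Dich.two_le S hT hB).trans h.norm_le

/-- `V ≤ O₂(Y)` if `Y` centralises `Ω₁(Z(T))`, `B ≤ T ≤ Y`. -/
theorem V_le_o2 (h : LineV S Q V L W Z C A q) {T Y : Subgroup G} (hT : IsPGroup 2 T)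
    (hB : bau (S : Subgroup G) ≤ T) (hTY : T ≤ Y) (hY : Y ≤ centralizer (zc T : Set G)) : V ≤ o2 Y := by
  obtain ⟨S', hS'⟩ := hT.exists_le_sylow
  obtain ⟨g, hg⟩ := MulAction.exists_smul_eq G S S'
  have hg2 : (S' : Subgroup G) = cj g (S : Subgroup G) := by
    rw [← hg, Sylow.coe_subgroup_smul]
    rfl
  have h1 := LemmaK.Main.bau_eq S S'.isPGroup' (hB.trans hS')
  have h2 := LemmaK.Main.zj_eq S S'.isPGroup' (hB.trans hS')
  have hgN : g ∈ normalizer (bau (S : Subgroup G) : Set G) := by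
    rw [mem_normalizer_iff_cj, ← bau_cj, ← hg2, h1]
  have h3 : zc (S' : Subgroup G) ≤ zc T := by
    intro z hz
    have h4 : z ∈ T := by
      have := zc_le_zj _ hz
      rw [h2] at this
      exact hB (zj_le_bau _ this)
    obtain ⟨h5, h6, h7⟩ := mem_zc.1 hz
    exact mem_zc.2 ⟨h4, h6, fun y hy => h7 y (hS' hy)⟩
  have h4 : Y ≤ centralizer (zc (S' : Subgroup G) : Set G) := hY.trans (centralizer_le h3)
  have h5 : V ≤ o2 (centralizer (zc (S' : Subgroup G) : Set G)) := by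
    have h6 := cj_mono g h.low
    rw [(h.norm hgN).1, ← pCore_cj, cj_centralizer, ← LemmaK.Main.zc_cj, ← hg2] at h6
    exact h6
  have h6 : V ≤ o2 (centralizer (zc (S' : Subgroup G) : Set G)) ⊓ Y :=
    le_inf h5 (((V_le_bau h).trans hB).trans hTY)
  refine h6.trans (le_o2 ((isPGroup_o2 _).to_le inf_le_left) inf_le_right ?_)
  intro y hy
  rw [mem_normalizer_iff_cj, cj_inf, cj_eq_of_mem_normalizer (le_normalizer_o2 _ (h4 hy)),
    cj_eq_of_mem_normalizer (le_normalizer hy)]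

/-- **Existence of pairs.** -/
theorem exists_pair (h : LineV S Q V L W Z C A q) (hFF : FFThm.Stmt.{u}) (hA : FFBr.AStmt.{u}) {M H : Subgroup G}
    (hK : K0 (S : Subgroup G) (FBlk (S : Subgroup G)) ≤ M) (hN : normalizer (bau (S : Subgroup G) : Set G) ≤ M)
    (hB : bau (S : Subgroup G) ≤ H) (hc : H ⊓ centralizer (o2 H : Set G) ≤ o2 H) (hM : ¬ H ≤ M) :
    ∃ T F : Subgroup G, Pair S V M T F ∧ F ≤ H := by
  have : Fact (Nat.Prime 2) := ⟨Nat.prime_two⟩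
  have hD : centralizer (zj (S : Subgroup G) : Set G) ≤ M := Dich.cent_le_K0.trans hK
  have hB2 : IsPGroup 2 (bau (S : Subgroup G)) := S.isPGroup'.to_le (bau_le _)
  obtain ⟨T₀, hT₀, hBT₀⟩ := exists_syl hB2 hB
  have hg := BlkGen.gen hFF hA hK hN hT₀ hBT₀ hc
  -- the minimal parabolic `Y`
  obtain ⟨Y, ⟨hYm, hYH, hYJ, hYc, -⟩, hYM⟩ : ∃ Y : Subgroup G, (IsMinPar T₀ Y ∧ Y ≤ H ∧ ¬ jj T₀ ≤ o2 Y ∧
      Y ≤ centralizer (zc T₀ : Set G) ∧ ¬ o2 Y ≤ bau (S : Subgroup G)) ∧ ¬ Y ≤ M := by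
    by_contra hcon
    push Not at hcon
    exact hM (hg.trans (sup_le inf_le_right (iSup_le fun Y => hcon Y.1 Y.2)))
  have hTM : T₀ ≤ M := (Dich.two_le S hT₀.2.1 hBT₀).trans hN
  have hTY : Syl T₀ Y := ⟨hYm.le, hT₀.2.1, fun Q hQ h2 hTQ => hT₀.2.2 Q (hQ.trans hYH) h2 hTQ⟩
  have hcY : Y ⊓ centralizer (o2 Y : Set G) ≤ o2 Y := by
    have h4 : o2 H ≤ o2 Y :=
      le_o2 (isPGroup_o2 H) ((o2_le_syl hT₀).trans hYm.le) (hYH.trans (le_normalizer_o2 H))
    rintro x ⟨hx, hxc⟩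
    exact h4 (hc ⟨hYH hx, centralizer_le (by exact_mod_cast h4) hxc⟩)
  have hVY : V ≤ o2 Y := V_le_o2 h hT₀.2.1 hBT₀ hYm.le hYc
  -- `Y₁ = O²(Y) O₂(Y) B`
  set Y₁ : Subgroup G := oddGen Y ⊔ (o2 Y ⊔ bau (S : Subgroup G)) with hY₁
  have hY₁Y : Y₁ ≤ Y := sup_le (oddGen_le Y) (sup_le (o2_le Y) (hBT₀.trans hYm.le))
  have hOB : IsPGroup 2 (o2 Y ⊔ bau (S : Subgroup G) : Subgroup G) :=
    hT₀.2.1.to_le (sup_le (o2_le_syl hTY) hBT₀)
  obtain ⟨T, hT, hOT⟩ := exists_syl hOB (le_sup_right : o2 Y ⊔ bau (S : Subgroup G) ≤ Y₁)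
  have hY₁M : ¬ Y₁ ≤ M := by
    intro hle
    apply hYM
    rw [← Dich.oddGen_sup_syl hTY]
    exact sup_le (le_sup_left.trans hle) hTM
  obtain ⟨F, hF⟩ := (Set.toFinite {K : Subgroup G | T ≤ K ∧ K ≤ Y₁ ∧ ¬ K ≤ M}).exists_minimal
    ⟨Y₁, hT.1, le_rfl, hY₁M⟩
  obtain ⟨hTF, hFY₁, hFM⟩ := hF.prop
  have hFY : F ≤ Y := hFY₁.trans hY₁Y
  have hsyl : Syl T F := ⟨hTF, hT.2.1, fun Q hQ h2 hle => hT.2.2 Q (hQ.trans hFY₁) h2 hle⟩
  have hBT : bau (S : Subgroup G) ≤ T := le_sup_right.trans hOT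
  have hOF : o2 Y ≤ o2 F :=
    le_o2 (isPGroup_o2 Y) ((le_sup_left.trans hOT).trans hTF) (hFY.trans (le_normalizer_o2 Y))
  refine ⟨T, F, ⟨hsyl, hBT, hFM, fun K hTK hKF => ?_, fun hJ => hFM ?_, hVY.trans hOF, ?_⟩, hFY.trans hYH⟩
  · by_contra hKM
    exact hKF.not_ge (hF.le_of_le ⟨hTK, hKF.le.trans hFY₁, hKM⟩ hKF.le)
  · have hjT : jj T = jj (S : Subgroup G) := LemmaK.Main.jj_eq S hT.2.1 hBT
    have h2 : jj (o2 F) = jj (S : Subgroup G) := by
      rw [← hjT]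
      exact jj_eq_of_jj_le (hjT ▸ hJ) (o2_le_syl hsyl)
    have h3 := (le_normalizer_o2 F).trans (normalizer_le_jj (o2 F))
    rw [h2] at h3
    exact h3.trans (norm_jj_le S hD hN)
  · rintro z ⟨hz, hzc⟩
    have hzB : z ∈ bau (S : Subgroup G) := zj_le_bau _ hz
    have hzO : ∀ y ∈ o2 Y, y * z = z * y := fun y hy => mem_centralizer_iff.1 hzc y (hOF hy)
    have hz1 : z ∈ zc (o2 Y) := by
      refine mem_zc.2 ⟨hcY ⟨hYm.le (hBT₀ hzB), mem_centralizer_iff.2 hzO⟩, (mem_zj.1 hz).2.1, hzO⟩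
    have hz2 : z ∈ centralizer (oddGen Y : Set G) := FixPt.fixPt hA hTY hYm hYJ hYc hz1
    have hle : Y₁ ≤ centralizer ({z} : Set G) := by
      refine sup_le (fun y hy => ?_) (sup_le (fun y hy => ?_) fun y hy => ?_) <;>
        rw [mem_centralizer_singleton_iff]
      · exact mem_centralizer_iff.1 hz2 y hy
      · exact hzO y hy
      · exact ((mem_bau.1 hy).2 z hz).symm
    rw [mem_centralizer_iff]
    intro y hy
    exact mem_centralizer_singleton_iff.1 (hle (hFY₁ hy))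

end line

/-! ### Supports (`q = 2`) -/

section supp

variable {ι : Type} [Finite ι] {S : Sylow 2 G} {Q V : Subgroup G} {L W Z C A : ι → Subgroup G}

/-- `N_G(B)` permutes the triples `(W i, Z i, Z_J ∩ C i)`. -/
theorem perm (h : LineV S Q V L W Z C A 2) {g : G} (hg : g ∈ normalizer (bau (S : Subgroup G) : Set G)) (i : ι) :
    ∃ j, cj g (Z i) = Z j ∧ cj g (W i) = W j ∧
      ∀ z ∈ zj (S : Subgroup G), (g * z * g⁻¹ ∈ C j ↔ z ∈ C i) := by
  have h' : FB (bau (S : Subgroup G)) (cj g (L i)) (cj g (W i)) (cj g (Z i)) 2 := by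
    have := (h.fr.blk i).conj g
    rwa [cj_eq_of_mem_normalizer hg] at this
  obtain ⟨-, j, hZ, -, h1 | ⟨-, -, ⟨w', hw', w, hw, hne⟩, -⟩⟩ := h.uniPlus h'
  · obtain ⟨-, hC, h2⟩ := h1
    refine ⟨j, hZ, (h2 rfl).1, fun z hz => ?_⟩
    have hz' : g * z * g⁻¹ ∈ zj (S : Subgroup G) := by
      have h3 := cj_eq_of_mem_normalizer (Dich.norm_zj _ hg)
      rw [← h3]
      exact ⟨z, hz, rfl⟩
    rw [hC _ hz', UniPlus.mem_C_iff h.fr hz]
    constructor
    · intro h3 l hl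
      have h4 := h3 (g * l * g⁻¹) ⟨l, hl, rfl⟩
      have h5 := congrArg (fun t => g⁻¹ * t * g) h4
      simpa [mul_assoc] using h5
    · intro h3 l hl
      have h4 := h3 _ (mem_cj.1 hl)
      have h5 := congrArg (fun t => g * t * g⁻¹) h4
      simpa [mul_assoc] using h5
  · exfalso
    apply hne
    refine h.fr.Vc ?_ (h.fr.WV j hw)
    rw [← (h.norm hg).1]
    exact cj_mono g (h.fr.WV i) hw'

theorem Z_ne (h : LineV S Q V L W Z C A 2) (i : ι) : ∃ z ∈ Z i, z ≠ 1 := by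
  have h1 : 1 < Nat.card (Z i) := by rw [h.fr.cardZ i]; norm_num
  have : Nontrivial (Z i) := Finite.one_lt_card_iff_nontrivial.1 h1
  obtain ⟨z, hz⟩ := exists_ne (1 : Z i)
  exact ⟨z, z.2, fun h => hz (Subtype.ext h)⟩

theorem Z_W (h : LineV S Q V L W Z C A 2) (i : ι) : Z i ≤ W i := (h.fr.blk i).ZV

theorem not_mem_C (h : LineV S Q V L W Z C A 2) {i : ι} {z : G} (hz : z ∈ Z i) (h1 : z ≠ 1) : z ∉ C i := by
  intro hc
  have h2 : z ∈ W i ⊓ C i := mem_inf.2 ⟨Z_W h i hz, hc⟩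
  rw [h.fr.dir i, mem_bot] at h2
  exact h1 h2

theorem Z_C (h : LineV S Q V L W Z C A 2) {i j : ι} (hij : i ≠ j) : Z j ≤ C i := (Z_W h j).trans (h.fr.WjC i j hij)

/-- `Z` is injective. -/
theorem Z_inj (h : LineV S Q V L W Z C A 2) {i j : ι} (e : Z i = Z j) : i = j := by
  by_contra hne
  obtain ⟨z, hz, hz1⟩ := Z_ne h i
  exact not_mem_C h hz hz1 (Z_C h hne (e ▸ hz))

theorem Z_eq (h : LineV S Q V L W Z C A 2) {i : ι} {x y : G} (hx : x ∈ Z i) (hy : y ∈ Z i) (hx1 : x ≠ 1)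
    (hy1 : y ≠ 1) : x = y := UniPlus.eq_of_card_two (h.fr.cardZ i) hx hy hx1 hy1

/-- If `g` normalises `Z i` it centralises it. -/
theorem cent_of_cj (h : LineV S Q V L W Z C A 2) {i : ι} {g : G} (e : cj g (Z i) = Z i) {z : G} (hz : z ∈ Z i) :
    g * z = z * g := by
  by_cases h1 : z = 1
  · rw [h1]; simp
  have h2 : g * z * g⁻¹ ∈ Z i := by rw [← e]; exact ⟨z, hz, rfl⟩
  have h3 := Z_eq h h2 hz (fun h3 => h1 (by simpa using h3)) h1
  exact mul_inv_eq_iff_eq_mul.1 h3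

/-- If `g` moves `Z i` to `Z j` it moves the generator to the generator. -/
theorem conj_gen (h : LineV S Q V L W Z C A 2) {i j : ι} {g : G} (e : cj g (Z i) = Z j) {z w : G} (hz : z ∈ Z i)
    (h1 : z ≠ 1) (hw : w ∈ Z j) (h2 : w ≠ 1) : g * z * g⁻¹ = w :=
  Z_eq h (by rw [← e]; exact ⟨z, hz, rfl⟩) hw (fun h3 => h1 (by simpa using h3)) h2

/-- An element of `Z_J` is determined by its support. -/
theorem eq_of_supp (h : LineV S Q V L W Z C A 2) {x y : G} (hx : x ∈ zj (S : Subgroup G))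
    (hy : y ∈ zj (S : Subgroup G)) (hs : ∀ i, x ∈ C i ↔ y ∈ C i) : x = y := by
  have hxV := h.fr.ZJV hx
  have hyV := h.fr.ZJV hy
  have h1 : x * y⁻¹ = 1 := by
    refine h.fr.C0 _ (mul_mem hxV (inv_mem hyV)) fun i => ?_
    by_cases hxi : x ∈ C i
    · exact mul_mem hxi (inv_mem ((hs i).1 hxi))
    have hyi : y ∉ C i := fun hc => hxi ((hs i).2 hc)
    obtain ⟨w, hw, c, hc, -, e⟩ := h.fr.split_ZJ i hx
    obtain ⟨w', hw', c', hc', -, e'⟩ := h.fr.split_ZJ i hy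
    have hw1 : w ≠ 1 := by
      rintro rfl
      exact hxi (by rw [e, one_mul]; exact hc)
    have hw1' : w' ≠ 1 := by
      rintro rfl
      exact hyi (by rw [e', one_mul]; exact hc')
    have h2 := Z_eq h hw hw' hw1 hw1'
    have h3 : w * c = c * w := h.fr.Vc (h.fr.ZV i hw) (h.fr.CV i hc)
    have h4 : w * c' = c' * w := h.fr.Vc (h.fr.ZV i hw) (h.fr.CV i hc')
    have e1 : x * y⁻¹ = c * c'⁻¹ := by
      rw [e, e', ← h2, h3, h4]; group
    rw [e1]
    exact mul_mem hc (inv_mem hc')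
  exact mul_inv_eq_one.1 h1

/-- Every subset of the index set is a support. -/
theorem exists_supp (h : LineV S Q V L W Z C A 2) (s : Set ι) :
    ∃ x ∈ zj (S : Subgroup G), ∀ i, (x ∈ C i ↔ i ∉ s) := by
  classical
  have : Fintype ι := Fintype.ofFinite ι
  suffices H : ∀ t : Finset ι, ∃ x ∈ zj (S : Subgroup G), ∀ i, (x ∈ C i ↔ i ∉ t) by
    obtain ⟨x, hx, hs⟩ := H s.toFinset
    exact ⟨x, hx, fun i => by rw [hs i, Set.mem_toFinset]⟩
  intro t
  induction t using Finset.induction_on with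
  | empty => exact ⟨1, one_mem _, fun i => by simp [one_mem]⟩
  | insert j t hj ih =>
    obtain ⟨x, hx, hs⟩ := ih
    obtain ⟨z, hz, hz1⟩ := Z_ne h j
    refine ⟨x * z, mul_mem hx (h.fr.Z_le j hz), fun i => ?_⟩
    by_cases hij : i = j
    · subst hij
      have h1 : x ∈ C i := (hs i).2 hj
      constructor
      · intro h2
        exact absurd ((Subgroup.mul_mem_cancel_left _ h1).1 h2) (not_mem_C h hz hz1)
      · intro h2
        exact absurd (Finset.mem_insert_self i t) h2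
    · have h1 : z ∈ C i := Z_C h hij hz
      rw [Subgroup.mul_mem_cancel_right _ h1, hs i, Finset.mem_insert, not_or]
      exact ⟨fun h2 => ⟨hij, h2⟩, fun h2 => h2.2⟩

/-- The support of a conjugate under `N_G(B)`. -/
theorem supp_cj (h : LineV S Q V L W Z C A 2) {g : G} (hg : g ∈ normalizer (bau (S : Subgroup G) : Set G)) {i j : ι}
    (e : cj g (Z i) = Z j) {z : G} (hz : z ∈ zj (S : Subgroup G)) : g * z * g⁻¹ ∈ C j ↔ z ∈ C i := by
  obtain ⟨k, h1, -, h2⟩ := perm h hg i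
  have h3 : j = k := Z_inj h (e.symm.trans h1)
  rw [h3]
  exact h2 z hz

theorem W_cj (h : LineV S Q V L W Z C A 2) {g : G} (hg : g ∈ normalizer (bau (S : Subgroup G) : Set G)) {i j : ι}
    (e : cj g (Z i) = Z j) : cj g (W i) = W j := by
  obtain ⟨k, h1, h2, -⟩ := perm h hg i
  have h3 : j = k := Z_inj h (e.symm.trans h1)
  rw [h3]
  exact h2

/-- `g ∈ N_G(B)` centralises `z ∈ Z_J` if it stabilises its support. -/
theorem comm_of_supp (h : LineV S Q V L W Z C A 2) {g : G} (hg : g ∈ normalizer (bau (S : Subgroup G) : Set G)) {z : G}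
    (hz : z ∈ zj (S : Subgroup G)) (hs : ∀ i j, cj g (Z i) = Z j → (z ∈ C i ↔ z ∈ C j)) : g * z = z * g := by
  have h1 : g * z * g⁻¹ = z := by
    refine eq_of_supp h (zj_cj_mem hg hz) hz fun j => ?_
    obtain ⟨i, hi, -, -⟩ := perm h (inv_mem hg) j
    have e : cj g (Z i) = Z j := by
      have := cj_inv_eq hi
      rwa [inv_inv] at this
    rw [supp_cj h hg e hz]
    exact hs i j e
  exact mul_inv_eq_iff_eq_mul.1 h1

end supp

end Cfsg.Agent.Omega.OM.SwapV.NegPair
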