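import Cfsg.Agent.Omega.OM.SwapV.MainZ

/-!
# THEOREM SW over an abstract frame, inside `C_G(Ω₁Z(S)^g)`, `g ∈ N_G(B)`

`MainZ.lean` with `C_G(c)` (`c ∈ Z_J` of full support) replaced by the centralisers `C_G(Ω₁Z(S)^g)`, `g ∈ N_G(B)`:
the group `X = C_ZJ(T) Z_j` contains `Ω₁Z(S)^g` if `T ≤ S^g`. (Box R, one class, infinite stage: the minimal parabolics
`Y ≤ C_G(c)` which move `Ω₁Z(S)` are not needed.)

* `CrA.zc_cj_le` : `T ≥ B` a 2-group ⟹ `Ω₁Z(S)^g ≤ C_ZJ(T)` for some `g ∈ N_G(B)`;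
* `CrA.exists_maxN`, `exists_sitN`, `le_of_char2N`, `cz_leN` : `C_G(Ω₁Z(S)) ≤ M`; `CrA.noOmN` : (Om) is impossible.
-/

set_option autoImplicit false
set_option linter.unusedSectionVars false

namespace Cfsg.Agent.Omega.OM.SwapV

open Subgroup Cfsg Cfsg.Agent.ZN.ChoiceBase Cfsg.Agent.ZN.ChoiceSit
open Cfsg.Agent.ZN (jj zj bau zc zl o2)
open Cfsg.Agent.MinSimple.MinParabolic (IsMinPar)
open Cfsg.Agent.Omega.OM.LevD (LB K0 Fam)
open Cfsg.Agent.Omega.OM.LevB (FBlk)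
open Cfsg.Agent.Omega.OM.Swap.Fam (Fm SitF)
open Cfsg.Agent.Omega.OM.Swap (char2_cent)
open Cfsg.Agent.Omega.OM.SwapL (cj_mul_eq cj_inv_eq Phi)

universe u

variable {G : Type u} [Group G] [Finite G]

namespace CrA

open Cr

variable {ι : Type} [Finite ι] {S : Sylow 2 G} {K B V ZJ : Subgroup G} {L W Z C A : ι → Subgroup G}

/-- `Ω₁Z(S)^g ≤ C_ZJ(T)` for a `g ∈ N_G(B)`, if `T ≥ B` is a 2-group. -/
theorem zc_cj_le (h : CrA S K B V ZJ L W Z C A) {T : Subgroup G} (hT : IsPGroup 2 T) (hB : B ≤ T) :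
    ∃ g ∈ normalizer (B : Set G), cj g (zc (S : Subgroup G)) ≤ ZJ ⊓ centralizer (T : Set G) := by
  obtain ⟨S', hS'⟩ := hT.exists_le_sylow
  obtain ⟨g, hg⟩ := MulAction.exists_smul_eq G S S'
  have hg2 : (S' : Subgroup G) = cj g (S : Subgroup G) := by
    rw [← hg, Sylow.coe_subgroup_smul]
    rfl
  have hgN : g ∈ normalizer (B : Set G) := by
    have h1 : cj g⁻¹ B ≤ (S : Subgroup G) := by
      have := cj_mono g⁻¹ ((hB.trans hS').trans hg2.le)
      rwa [cj_inv_cj] at this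
    have h2 := h.wc _ S.isPGroup' h.lb.BS _ h1
    have h3 := inv_mem (mem_normalizer_iff_cj.2 h2)
    rwa [inv_inv] at h3
  refine ⟨g, hgN, le_inf ?_ ?_⟩
  · have h6 := cj_mono g h.zcS
    rwa [cj_eq_of_mem_normalizer (h.lb.norm_B_le hgN)] at h6
  · intro z hz
    rw [← NO3S.Level.zc_cj, ← hg2] at hz
    rw [mem_centralizer_iff]
    intro t ht
    exact (mem_zc.1 hz).2.2 t (hS' ht)

/-- A pair with `|C_ZJ(T)|` maximal; `C_G(C_ZJ(T) z_j) ≤ M` for the moved indices `j`. -/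
theorem exists_maxN (h : CrA S K B V ZJ L W Z C A) {M H : Subgroup G}
    (hBM : ∀ g ∈ normalizer (B : Set G), BMH K B M (centralizer (cj g (zc (S : Subgroup G)) : Set G)))
    (hBMH : BMH K B M H)
    (hD : centralizer (ZJ : Set G) ≤ M) (hN : normalizer (B : Set G) ≤ M)
    (hB : B ≤ H) (hch : H ⊓ centralizer (o2 H : Set G) ≤ o2 H) (hM : ¬ H ≤ M) :
    ∃ T F : Subgroup G, Pair K B V ZJ M T F ∧ ∀ j, j ∉ Phi Z T →
      centralizer ((ZJ ⊓ centralizer (T : Set G) ⊔ Z j : Subgroup G) : Set G) ≤ M := by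
  classical
  have hS2 : IsPGroup 2 ZJ := h.lb.Bp.to_le h.lb.ZB
  -- choose
  let s : Set ℕ := {m | ∃ T F : Subgroup G, Pair K B V ZJ M T F ∧
    Nat.card (ZJ ⊓ centralizer (T : Set G) : Subgroup G) = m}
  have hs1 : s.Nonempty := by
    obtain ⟨T, F, hp, -⟩ := exists_pairH h.toCr hBMH hD hN hB hch hM
    exact ⟨_, T, F, hp, rfl⟩
  have hs2 : s.Finite := by
    refine (Set.finite_Iic (Nat.card ZJ)).subset ?_
    rintro m ⟨T, F, -, rfl⟩
    rw [Set.mem_Iic]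
    exact Nat.card_mono (Set.toFinite _) (inf_le_left : ZJ ⊓ centralizer (T : Set G) ≤ _)
  obtain ⟨m, hm⟩ := hs2.exists_maximal hs1
  obtain ⟨T, F, hp, hcard⟩ := hm.prop
  refine ⟨T, F, hp, fun j hj => ?_⟩
  by_contra hcon
  set X : Subgroup G := ZJ ⊓ centralizer (T : Set G) ⊔ Z j with hX
  have hXJ : X ≤ ZJ := sup_le inf_le_left (h.Z_le j)
  have hX1 : X ≠ ⊥ := by
    intro e
    obtain ⟨z, hz, hz1⟩ := Z_ne h.toCr j
    have h1 : z ∈ X := mem_sup_right hz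
    rw [e, mem_bot] at h1
    exact hz1 h1
  obtain ⟨g, hg, hgT⟩ := zc_cj_le h hp.syl.2.1 hp.BT
  have hXc : centralizer (X : Set G) ≤ centralizer (cj g (zc (S : Subgroup G)) : Set G) :=
    centralizer_le (by exact_mod_cast hgT.trans le_sup_left)
  have hBX : B ≤ centralizer (X : Set G) :=
    h.lb.Bc.trans (centralizer_le (by exact_mod_cast hXJ))
  obtain ⟨T', F', hp', hle⟩ := exists_pairH h.toCr
    (fun T' Y hT hB' hY hYH => hBM g hg T' Y hT hB' hY (hYH.trans hXc)) hD hN hBX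
    (char2_cent h.char2 (hS2.to_le hXJ) hX1) hcon
  have hsub : X ≤ ZJ ⊓ centralizer (T' : Set G) :=
    le_inf hXJ (le_centralizer_iff.1 (hp'.syl.1.trans hle))
  have hlt : ZJ ⊓ centralizer (T : Set G) < X := by
    refine lt_of_le_of_ne le_sup_left fun e => hj fun t ht => ?_
    refine cj_eq_of_mem_normalizer (centralizer_le_normalizer _ ?_)
    have h1 : Z j ≤ centralizer (T : Set G) := by
      have h2 : Z j ≤ ZJ ⊓ centralizer (T : Set G) := by
        rw [e]; exact le_sup_right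
      exact h2.trans inf_le_right
    exact le_centralizer_iff.1 h1 ht
  have h2 : m < Nat.card (ZJ ⊓ centralizer (T' : Set G) : Subgroup G) := by
    rw [← hcard]
    refine lt_of_lt_of_le (lt_of_not_ge fun hge => hlt.ne (Subgroup.eq_of_le_of_card_ge hlt.le hge))
      (Nat.card_mono (Set.toFinite _) (hsub : (X : Set G) ⊆ _))
  exact absurd (hm.le_of_ge ⟨T', F', hp', rfl⟩ h2.le) (not_le.2 h2)

/-- **STEP 0.** -/
theorem exists_sitN (h : CrA S K B V ZJ L W Z C A) {M H : Subgroup G}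
    (hBM : ∀ g ∈ normalizer (B : Set G), BMH K B M (centralizer (cj g (zc (S : Subgroup G)) : Set G)))
    (hBMH : BMH K B M H) (hLM : ∀ i, L i ≤ M)
    (hD : centralizer (ZJ : Set G) ≤ M) (hN : normalizer (B : Set G) ≤ M)
    (hB : B ≤ H) (hch : H ⊓ centralizer (o2 H : Set G) ≤ o2 H) (hM : ¬ H ≤ M) :
    ∃ (T F F₀ : Subgroup G) (𝓐 : Set (Subgroup G)) (κ : Type) (V' : κ → Subgroup G) (z : κ → G),
      SitF F T F₀ 𝓐 V' z := by
  classical
  obtain ⟨T, F, hp, hcen⟩ := exists_maxN h hBM hBMH hD hN hB hch hM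
  obtain ⟨r, hr⟩ := exists_orb h.toCr hp hD
  choose z hz hz1 using Z_ne h.toCr
  choose tv htvA htvm using exists_tv h
  obtain ⟨i₀, hi₀, j₀, hj₀r, hne₀⟩ := hr.two
  have hctx : Ctx S K B V ZJ L W Z C A M T F r z tv :=
    { h := h
      hp := hp
      LM := hLM
      NM := hN
      cen := fun i hi => hcen i (hr.rPhi i hi)
      zZ := hz
      zn := hz1
      tvA := htvA
      tvm := htvm
      tr := hr.tr
      inv := hr.inv
      nt := fun i _ => by
        by_cases hi : i = i₀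
        · exact ⟨j₀, hj₀r, fun e => hne₀ (by rw [← hi, e])⟩
        · exact ⟨i₀, hi₀, fun e => hi e.symm⟩ }
  refine sit_of h.toCr hp hD hN hr fun i hi x hx hx1 f hf hxf => ?_
  rw [mem_cj] at hxf
  exact hctx.ti hf hi hx hx1 hxf

/-- **THEOREM SW** over an abstract frame, inside `C_G(Ω₁Z(S)^g)`. -/
theorem le_of_char2N (h : CrA S K B V ZJ L W Z C A) {M H : Subgroup G}
    (hBM : ∀ g ∈ normalizer (B : Set G), BMH K B M (centralizer (cj g (zc (S : Subgroup G)) : Set G)))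
    (hBMH : BMH K B M H) (hLM : ∀ i, L i ≤ M)
    (hD : centralizer (ZJ : Set G) ≤ M) (hN : normalizer (B : Set G) ≤ M)
    (hB : B ≤ H) (hch : H ⊓ centralizer (o2 H : Set G) ≤ o2 H) : H ≤ M := by
  by_contra hM
  obtain ⟨T, F, F₀, 𝓐, κ, V', z, hS⟩ := exists_sitN h hBM hBMH hLM hD hN hB hch hM
  exact hS.false

/-- `C_G(Ω₁Z(S)) ≤ M` -/
theorem cz_leN (h : CrA S K B V ZJ L W Z C A) {M : Subgroup G}
    (hBM : ∀ g ∈ normalizer (B : Set G), BMH K B M (centralizer (cj g (zc (S : Subgroup G)) : Set G)))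
    (hLM : ∀ i, L i ≤ M) (hD : centralizer (ZJ : Set G) ≤ M) (hN : normalizer (B : Set G) ≤ M)
    (hS1 : (S : Subgroup G) ≠ ⊥) : centralizer (zc (S : Subgroup G) : Set G) ≤ M := by
  have h1 := MinPar.isLoc_centralizer_zc S hS1
  refine le_of_char2N h hBM ?_ hLM hD hN (h.lb.BS.trans h1.le) (h1.char2 S h.char2)
  have h2 := hBM 1 (one_mem _)
  rwa [cj_one] at h2

/-- **(Om) is impossible**: `K0 = ⟨C_G(Z_J), blocks⟩` normalises no 2-group `R ≠ 1`, if no 2-group `≠ 1` is normalised by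
`C_G(Ω₁Z(S))` and all members of `Pr` (parabolics over `S` which move `Ω₁Z(S)`). -/
theorem noOmN (h : CrA S K B V ZJ L W Z C A) (hF : Fam B ZJ (FBlk B))
    (hLM : ∀ i, L i ≤ K0 ZJ (FBlk B))
    (hBM : ∀ M : Subgroup G, K0 ZJ (FBlk B) ≤ M → normalizer (B : Set G) ≤ M → o2 M ≠ ⊥ →
      ∀ g ∈ normalizer (B : Set G), BMH K B M (centralizer (cj g (zc (S : Subgroup G)) : Set G)))
    {Pr : Subgroup G → Prop}
    (hPr : ∀ P, Pr P → K ≤ o2 P ∨ P ≤ K0 ZJ (FBlk B) ⊔ (S : Subgroup G))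
    (hnon : ∀ R : Subgroup G, IsPGroup 2 R → (∀ P, Pr P → P ≤ normalizer (R : Set G)) →
      centralizer (zc (S : Subgroup G) : Set G) ≤ normalizer (R : Set G) → R = ⊥) :
    ∀ R : Subgroup G, IsPGroup 2 R → K0 ZJ (FBlk B) ≤ normalizer (R : Set G) → R = ⊥ := by
  by_contra hcon
  push Not at hcon
  obtain ⟨R, hR, hRn, hR1⟩ := hcon
  obtain ⟨ho, hoB, hle⟩ := hF.dich h.lb hR hR1 hRn
  set O : Subgroup G := o2 (K0 ZJ (FBlk B)) with hO
  set M : Subgroup G := normalizer (O : Set G) with hM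
  have hK : K0 ZJ (FBlk B) ≤ M := le_sup_left.trans hle
  have hN : normalizer (B : Set G) ≤ M := le_sup_right.trans hle
  have hSM : (S : Subgroup G) ≤ M := (h.lb.two_le S.isPGroup' h.lb.BS).trans hN
  have hoM : o2 M ≠ ⊥ := by
    intro e
    apply ho
    have h1 : O ≤ o2 M := le_o2 (isPGroup_o2 _) le_normalizer le_rfl
    rw [e] at h1
    exact le_bot_iff.1 h1
  have hD : centralizer (ZJ : Set G) ≤ M := LevD.cent_le_K0.trans hK
  have hZM : normalizer (ZJ : Set G) ≤ M := h.lb.norm_zj_le.trans (sup_le hD hN)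
  have hS1 : (S : Subgroup G) ≠ ⊥ := fun e => ho (by
    have h1 := hoB.trans h.lb.BS
    rw [e] at h1
    exact le_bot_iff.1 h1)
  have h2 := cz_leN h (hBM M hK hN hoM) (fun i => (hLM i).trans hK) hD hN hS1
  refine ho (hnon _ (isPGroup_o2 _) (fun P hP => ?_) h2)
  rcases hPr P hP with hKP | h3
  · exact ((le_normalizer_o2 P).trans (h.lb.nrm _ (isPGroup_o2 P) hKP)).trans hZM
  · exact h3.trans (sup_le hK hSM)

end CrA

end Cfsg.Agent.Omega.OM.SwapV
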