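import Cfsg.Agent.Omega.OM.SwapV.Lev
import Cfsg.Agent.Omega.OM.Lev.Low.LowMain

/-!
# The `q`-free half of THEOREM SW / YQ over an abstract `V`: pairs and offender families

* `CrB S K B V ZJ` : `LB S K B ZJ`, `B` weakly closed, `V ≤ B`, `N_G(B) ≤ N_G(V)`, `V ≤ O₂(C_G(Ω₁Z(S)))`, the no-FF field
  and the fixed point property of quiet minimal parabolics. No blocks, no `q`.
* `CrB.exists_pairH`, `exists_pair`, `exists_maxC` : pairs `(T, F)` (with `|C_ZJ(T)|` maximal); `comm_of_pair`; `V_le_o2`;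
* `crB_lev`, `crB_neg` : the levels, and stage `-1`;
* `FmX`, `exists_fam_lev`, `exists_fam_neg` : the families of offenders.
-/

set_option autoImplicit false
set_option linter.unusedSectionVars false

namespace Cfsg.Agent.Omega.OM.SwapV

open Subgroup Cfsg Cfsg.Agent.ZN.ChoiceBase Cfsg.Agent.ZN.ChoiceSit
open Cfsg.Agent.ZN (jj zj bau zc zl o2)
open Cfsg.Agent.MinSimple.MinParabolic (IsMinPar)
open Cfsg.Agent.MinSimple.VModule (oddGen oddGen_le)
open Cfsg.Agent.Omega.NO3S.Level (lev Lev lev_isLev BO nxt)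
open Cfsg.Agent.Omega.OM.LevD (LB)
open Cfsg.Agent.Omega.OM.WeakCl (WC)
open Cfsg.Agent.Omega.OM.Lev.Uni (FrL Best)
open Cfsg.Agent.Omega.OM.Swap.Fam (Fm BF fm_AA fm_best)
open Cfsg.Agent.Omega.OM.Swap (char2_cent)
open Cfsg.Agent.Omega.OM.SwapL (BL ZL lb wc norm_lev zc_elab)

universe u

variable {G : Type u} [Group G] [Finite G]

/-- The `q`-free ground frame. -/
structure CrB (S : Sylow 2 G) (K B V ZJ : Subgroup G) : Prop where
  lb : LB S K B ZJ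
  wc : WC B
  zcS : zc (S : Subgroup G) ≤ ZJ
  VB : V ≤ B
  nV : ∀ g ∈ normalizer (B : Set G), cj g V = V
  char2 : IsCharacteristicTwoType G
  low : V ≤ o2 (centralizer (zc (S : Subgroup G) : Set G))
  noff : ∀ T : Subgroup G, IsPGroup 2 T → B ≤ T → ∀ f : G, cj f V ≤ T → V ≤ cj f T →
    ∀ x ∈ V, ∀ y ∈ V, x * (f * y * f⁻¹) = f * y * f⁻¹ * x
  fixPt : ∀ T Y : Subgroup G, Quiet K B T Y → ZJ ⊓ zc (o2 Y) ≤ centralizer (oddGen Y : Set G)

namespace CrB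

variable {S : Sylow 2 G} {K B V ZJ : Subgroup G}

theorem norm_le (h : CrB S K B V ZJ) : normalizer (B : Set G) ≤ normalizer (V : Set G) := fun g hg => by
  rw [mem_normalizer_iff_cj]
  exact h.nV g hg

/-- **(F1)** a conjugate of `B` inside `M` is a conjugate by an element of `M`. -/
theorem mem_of_cj_B_le (h : CrB S K B V ZJ) {M : Subgroup G} (hSM : (S : Subgroup G) ≤ M)
    (hN : normalizer (B : Set G) ≤ M) {g : G} (h0 : cj g B ≤ M) : g ∈ M := by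
  have hS : Syl (S : Subgroup G) M := ⟨hSM, S.isPGroup', fun Q _ hQ hle => S.is_maximal' hQ hle⟩
  have h2 : IsPGroup 2 (cj g B) := isPGroup_cj g h.lb.Bp
  obtain ⟨T, hT, hle⟩ := exists_syl h2 h0
  obtain ⟨m, hm, rfl⟩ := syl_conj hS hT
  have h3 : cj (m⁻¹ * g) B ≤ (S : Subgroup G) := by
    have := cj_mono m⁻¹ hle
    rwa [cj_inv_cj, cj_cj] at this
  have h4 := h.wc _ S.isPGroup' h.lb.BS _ h3
  have h5 : m⁻¹ * g ∈ M := hN (mem_normalizer_iff_cj.2 h4)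
  have h6 := mul_mem hm h5
  rwa [mul_inv_cancel_left] at h6

/-- a 2-group over `B` normalises `V`. -/
theorem two_norm (h : CrB S K B V ZJ) {T : Subgroup G} (hT : IsPGroup 2 T) (hB : B ≤ T) :
    T ≤ normalizer (V : Set G) :=
  (h.lb.two_le hT hB).trans h.norm_le

/-- `Ω₁Z(T) ≤ Z_J`-part: a 2-group over `B` lies in `S^g`, `g ∈ N_G(B)`, and `Ω₁Z(S)^g ≤ Ω₁Z(T)`. -/
theorem exists_cj (h : CrB S K B V ZJ) {T : Subgroup G} (hT : IsPGroup 2 T) (hB : B ≤ T) :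
    ∃ g ∈ normalizer (B : Set G), T ≤ cj g (S : Subgroup G) ∧ cj g (zc (S : Subgroup G)) ≤ zc T := by
  obtain ⟨g, hg, hle⟩ := exists_cj_S h.wc h.lb.BS hT hB
  refine ⟨g, hg, hle, ?_⟩
  intro z hz
  have h6 := cj_mono g h.zcS hz
  rw [cj_eq_of_mem_normalizer (h.lb.norm_B_le hg)] at h6
  have h4 : z ∈ T := hB (h.lb.ZB h6)
  rw [← NO3S.Level.zc_cj] at hz
  obtain ⟨h5, h6, h7⟩ := mem_zc.1 hz
  exact mem_zc.2 ⟨h4, h6, fun y hy => h7 y (hle hy)⟩

/-- `V ≤ O₂(Y)` if `Y` centralises `Ω₁(Z(T))`, `B ≤ T ≤ Y`. -/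
theorem V_le_o2 (h : CrB S K B V ZJ) {T Y : Subgroup G} (hT : IsPGroup 2 T)
    (hB : B ≤ T) (hTY : T ≤ Y) (hY : Y ≤ centralizer (zc T : Set G)) : V ≤ o2 Y := by
  obtain ⟨g, hgN, -, h3⟩ := h.exists_cj hT hB
  have h4 : Y ≤ centralizer (cj g (zc (S : Subgroup G)) : Set G) := hY.trans (centralizer_le h3)
  have h5 : V ≤ o2 (centralizer (cj g (zc (S : Subgroup G)) : Set G)) := by
    have h6 := cj_mono g h.low
    rw [h.nV g hgN, ← pCore_cj, cj_centralizer] at h6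
    exact h6
  have h6 : V ≤ o2 (centralizer (cj g (zc (S : Subgroup G)) : Set G)) ⊓ Y :=
    le_inf h5 ((h.VB.trans hB).trans hTY)
  refine h6.trans (le_o2 ((isPGroup_o2 _).to_le inf_le_left) inf_le_right ?_)
  intro y hy
  rw [mem_normalizer_iff_cj, cj_inf, cj_eq_of_mem_normalizer (le_normalizer_o2 _ (h4 hy)),
    cj_eq_of_mem_normalizer (le_normalizer hy)]

/-- `LevB.genM` with the weak fixed point property. -/
theorem genM (h : CrB S K B V ZJ) {M T H : Subgroup G} (hD : centralizer (ZJ : Set G) ≤ M)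
    (hN : normalizer (B : Set G) ≤ M) (hT : Syl T H) (hBT : B ≤ T)
    (hc : H ⊓ centralizer (o2 H : Set G) ≤ o2 H)
    (hblk : ∀ Y : Subgroup G, IsMinPar T Y → Y ≤ H → ¬ K ≤ o2 Y → ¬ Y ≤ centralizer (zc T : Set G) → Y ≤ M) :
    H ≤ (H ⊓ M) ⊔ ⨆ Y : {Y : Subgroup G // IsMinPar T Y ∧ Y ≤ H ∧ ¬ K ≤ o2 Y ∧
      Y ≤ centralizer (zc T : Set G) ∧ ¬ o2 Y ≤ B}, (Y : Subgroup G) := by
  have hB := h.lb
  have hZM : normalizer (ZJ : Set G) ≤ M := hB.norm_zj_le.trans (sup_le hD hN)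
  have hTN : normalizer (T : Set G) ≤ M := (hB.nrm T hT.2.1 (hB.KB.trans hBT)).trans hZM
  have hTM : T ≤ M := le_normalizer.trans hTN
  refine MinSimple.MinParabolic.le_of_forall hT.1 ?_ fun Y hY hYH => ?_
  · exact le_sup_of_le_left (inf_le_inf_left _ hTN)
  have hcase : Y ≤ M → Y ≤ (H ⊓ M) ⊔ ⨆ Y : {Y : Subgroup G // IsMinPar T Y ∧ Y ≤ H ∧ ¬ K ≤ o2 Y ∧
      Y ≤ centralizer (zc T : Set G) ∧ ¬ o2 Y ≤ B}, (Y : Subgroup G) :=
    fun h => le_sup_of_le_left (le_inf hYH h)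
  have hTY : Syl T Y := ⟨hY.le, hT.2.1, fun Q hQ h2 hTQ => hT.2.2 Q (hQ.trans hYH) h2 hTQ⟩
  by_cases h1 : K ≤ o2 Y
  · exact hcase ((le_normalizer_o2 Y).trans ((hB.nrm _ (isPGroup_o2 Y) h1).trans hZM))
  by_cases h2 : Y ≤ centralizer (zc T : Set G)
  · by_cases h3 : o2 Y ≤ B
    · apply hcase
      have h4 : o2 H ≤ o2 Y := by
        refine le_o2 (isPGroup_o2 H) ((o2_le_syl hT).trans hY.le) (hYH.trans (le_normalizer_o2 H))
      have hcY : Y ⊓ centralizer (o2 Y : Set G) ≤ o2 Y := by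
        rintro x ⟨hx, hxc⟩
        exact h4 (hc ⟨hYH hx, centralizer_le (by exact_mod_cast h4) hxc⟩)
      have h5 : ZJ ≤ zc (o2 Y) := by
        intro z hz
        have hzT : z ∈ T := hBT (hB.ZB hz)
        have hcz : ∀ y ∈ o2 Y, y * z = z * y := fun y hy =>
          (mem_centralizer_iff.1 (hB.Bc (h3 hy)) z hz).symm
        exact mem_zc.2 ⟨hcY ⟨hY.le hzT, mem_centralizer_iff.2 hcz⟩, hB.sq z hz, hcz⟩
      have h6 : ZJ ≤ centralizer (oddGen Y : Set G) :=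
        (le_inf le_rfl h5).trans (h.fixPt T Y ⟨hTY, hBT, hY, hcY, h1, h2⟩)
      have h7 : MinSimple.VModule.oddGen Y ≤ M := (le_centralizer_iff.1 h6).trans hD
      have h8 : MinSimple.VModule.oddGen Y ⊔ T = Y := Dich.oddGen_sup_syl hTY
      rw [← h8]
      exact sup_le h7 hTM
    · exact le_sup_of_le_right (le_iSup (fun Y : {Y : Subgroup G // IsMinPar T Y ∧ Y ≤ H ∧ ¬ K ≤ o2 Y ∧
        Y ≤ centralizer (zc T : Set G) ∧ ¬ o2 Y ≤ B} => (Y : Subgroup G))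
        ⟨Y, hY, hYH, h1, h2, h3⟩)
  · exact hcase (hblk Y hY hYH h1 h2)

/-- **Existence of pairs**, blocks inside `H` only. -/
theorem exists_pairH (h : CrB S K B V ZJ) {M H : Subgroup G} (hBM : BMH K B M H)
    (hD : centralizer (ZJ : Set G) ≤ M) (hN : normalizer (B : Set G) ≤ M)
    (hB : B ≤ H) (hc : H ⊓ centralizer (o2 H : Set G) ≤ o2 H) (hM : ¬ H ≤ M) :
    ∃ T F : Subgroup G, Pair K B V ZJ M T F ∧ F ≤ H := by
  have : Fact (Nat.Prime 2) := ⟨Nat.prime_two⟩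
  obtain ⟨T₀, hT₀, hBT₀⟩ := exists_syl h.lb.Bp hB
  have hsylY : ∀ Y : Subgroup G, IsMinPar T₀ Y → Y ≤ H → Syl T₀ Y := fun Y hY hYH =>
    ⟨hY.le, hT₀.2.1, fun Q hQ h2 hTQ => hT₀.2.2 Q (hQ.trans hYH) h2 hTQ⟩
  have hcY' : ∀ Y : Subgroup G, IsMinPar T₀ Y → Y ≤ H → Y ⊓ centralizer (o2 Y : Set G) ≤ o2 Y := by
    intro Y hY hYH
    have h4 : o2 H ≤ o2 Y :=
      le_o2 (isPGroup_o2 H) ((o2_le_syl hT₀).trans hY.le) (hYH.trans (le_normalizer_o2 H))
    rintro x ⟨hx, hxc⟩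
    exact h4 (hc ⟨hYH hx, centralizer_le (by exact_mod_cast h4) hxc⟩)
  have hg := genM h hD hN hT₀ hBT₀ hc
    fun Y hY hYH => hBM T₀ Y (hsylY Y hY hYH) hBT₀ hY hYH (hcY' Y hY hYH)
  -- the minimal parabolic `Y`
  obtain ⟨Y, ⟨hYm, hYH, hYK, hYc, -⟩, hYM⟩ : ∃ Y : Subgroup G, (IsMinPar T₀ Y ∧ Y ≤ H ∧
      ¬ K ≤ o2 Y ∧ Y ≤ centralizer (zc T₀ : Set G) ∧ ¬ o2 Y ≤ B) ∧ ¬ Y ≤ M := by
    by_contra hcon
    push Not at hcon
    exact hM (hg.trans (sup_le inf_le_right (iSup_le fun Y => hcon Y.1 Y.2)))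
  have hTM : T₀ ≤ M := (h.lb.two_le hT₀.2.1 hBT₀).trans hN
  have hTY : Syl T₀ Y := hsylY Y hYm hYH
  have hcY := hcY' Y hYm hYH
  have hq : Quiet K B T₀ Y := ⟨hTY, hBT₀, hYm, hcY, hYK, hYc⟩
  have hVY : V ≤ o2 Y := V_le_o2 h hT₀.2.1 hBT₀ hYm.le hYc
  -- `Y₁ = O²(Y) O₂(Y) B`
  set Y₁ : Subgroup G := oddGen Y ⊔ (o2 Y ⊔ B) with hY₁
  have hY₁Y : Y₁ ≤ Y := sup_le (oddGen_le Y) (sup_le (o2_le Y) (hBT₀.trans hYm.le))
  have hOB : IsPGroup 2 (o2 Y ⊔ B : Subgroup G) :=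
    hT₀.2.1.to_le (sup_le (o2_le_syl hTY) hBT₀)
  obtain ⟨T, hT, hOT⟩ := exists_syl hOB (le_sup_right : o2 Y ⊔ B ≤ Y₁)
  have hY₁M : ¬ Y₁ ≤ M := by
    intro hle
    apply hYM
    rw [← Dich.oddGen_sup_syl hTY]
    exact sup_le (le_sup_left.trans hle) hTM
  obtain ⟨F, hF⟩ := (Set.toFinite {R : Subgroup G | T ≤ R ∧ R ≤ Y₁ ∧ ¬ R ≤ M}).exists_minimal
    ⟨Y₁, hT.1, le_rfl, hY₁M⟩
  obtain ⟨hTF, hFY₁, hFM⟩ := hF.prop
  have hFY : F ≤ Y := hFY₁.trans hY₁Y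
  have hsyl : Syl T F := ⟨hTF, hT.2.1, fun Q hQ h2 hle => hT.2.2 Q (hQ.trans hFY₁) h2 hle⟩
  have hBT : B ≤ T := le_sup_right.trans hOT
  have hOF : o2 Y ≤ o2 F :=
    le_o2 (isPGroup_o2 Y) ((le_sup_left.trans hOT).trans hTF) (hFY.trans (le_normalizer_o2 Y))
  refine ⟨T, F, ⟨hsyl, hBT, hFM, fun R hTR hRF => ?_, hVY.trans hOF, ?_, T₀, Y, hq, hYM, hFY, hOF⟩,
    hFY.trans hYH⟩
  · by_contra hRM
    exact hRF.not_ge (hF.le_of_le ⟨hTR, hRF.le.trans hFY₁, hRM⟩ hRF.le)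
  · rintro z ⟨hz, hzc⟩
    have hzB : z ∈ B := h.lb.ZB hz
    have hzO : ∀ y ∈ o2 Y, y * z = z * y := fun y hy => mem_centralizer_iff.1 hzc y (hOF hy)
    have hz1 : z ∈ zc (o2 Y) := by
      refine mem_zc.2 ⟨hcY ⟨hYm.le (hBT₀ hzB), mem_centralizer_iff.2 hzO⟩, h.lb.sq z hz, hzO⟩
    have hz2 : z ∈ centralizer (oddGen Y : Set G) := h.fixPt T₀ Y hq ⟨hz, hz1⟩
    have hle : Y₁ ≤ centralizer ({z} : Set G) := by
      refine sup_le (fun y hy => ?_) (sup_le (fun y hy => ?_) fun y hy => ?_) <;>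
        rw [mem_centralizer_singleton_iff]
      · exact mem_centralizer_iff.1 hz2 y hy
      · exact hzO y hy
      · exact (mem_centralizer_iff.1 (h.lb.Bc hy) z hz).symm
    rw [mem_centralizer_iff]
    intro y hy
    exact mem_centralizer_singleton_iff.1 (hle (hFY₁ hy))

/-- **Existence of pairs.** -/
theorem exists_pair (h : CrB S K B V ZJ) {M H : Subgroup G} (hBM : BM K B M)
    (hD : centralizer (ZJ : Set G) ≤ M) (hN : normalizer (B : Set G) ≤ M)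
    (hB : B ≤ H) (hc : H ⊓ centralizer (o2 H : Set G) ≤ o2 H) (hM : ¬ H ≤ M) :
    ∃ T F : Subgroup G, Pair K B V ZJ M T F ∧ F ≤ H :=
  exists_pairH h (fun T Y hT hB' hY _ => hBM T Y hT hB' hY) hD hN hB hc hM

/-- **A pair with `|C_ZJ(T)|` maximal**: `C_G(X) ≤ M` for every `X ≤ Z_J`, `X > C_ZJ(T)`; everything inside `C_G(c)`. -/
theorem exists_maxC (h : CrB S K B V ZJ) {M H : Subgroup G} {c : G}
    (hcT : ∀ T : Subgroup G, IsPGroup 2 T → B ≤ T → ∀ t ∈ T, t * c = c * t) (hcJ : c ∈ ZJ)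
    (hBM : BMH K B M (centralizer ({c} : Set G)))
    (hD : centralizer (ZJ : Set G) ≤ M) (hN : normalizer (B : Set G) ≤ M)
    (hB : B ≤ H) (hH : H ≤ centralizer ({c} : Set G))
    (hch : H ⊓ centralizer (o2 H : Set G) ≤ o2 H) (hM : ¬ H ≤ M) :
    ∃ T F : Subgroup G, Pair K B V ZJ M T F ∧ F ≤ centralizer ({c} : Set G) ∧
      ∀ X : Subgroup G, X ≤ ZJ → ZJ ⊓ centralizer (T : Set G) < X → centralizer (X : Set G) ≤ M := by
  classical
  have hS2 : IsPGroup 2 ZJ := h.lb.Bp.to_le h.lb.ZB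
  have hBMH : ∀ H' : Subgroup G, H' ≤ centralizer ({c} : Set G) → BMH K B M H' := fun H' hH' T Y hT hB' hY hYH =>
    hBM T Y hT hB' hY (hYH.trans hH')
  let s : Set ℕ := {m | ∃ T F : Subgroup G, Pair K B V ZJ M T F ∧ F ≤ centralizer ({c} : Set G) ∧
    Nat.card (ZJ ⊓ centralizer (T : Set G) : Subgroup G) = m}
  have hs1 : s.Nonempty := by
    obtain ⟨T, F, hp, hFH⟩ := exists_pairH h (hBMH H hH) hD hN hB hch hM
    exact ⟨_, T, F, hp, hFH.trans hH, rfl⟩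
  have hs2 : s.Finite := by
    refine (Set.finite_Iic (Nat.card ZJ)).subset ?_
    rintro m ⟨T, F, -, -, rfl⟩
    rw [Set.mem_Iic]
    exact Nat.card_mono (Set.toFinite _) (inf_le_left : ZJ ⊓ centralizer (T : Set G) ≤ _)
  obtain ⟨m, hm⟩ := hs2.exists_maximal hs1
  obtain ⟨T, F, hp, hFc, hcard⟩ := hm.prop
  refine ⟨T, F, hp, hFc, fun X hXJ hlt => ?_⟩
  by_contra hcon
  have hX1 : X ≠ ⊥ := by
    rintro rfl
    exact not_lt_bot hlt
  have hcX : c ∈ X := hlt.le (mem_inf.2 ⟨hcJ, mem_centralizer_iff.2 fun t ht =>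
    hcT T hp.syl.2.1 hp.BT t ht⟩)
  have hXc : centralizer (X : Set G) ≤ centralizer ({c} : Set G) :=
    centralizer_le (Set.singleton_subset_iff.2 hcX)
  have hBX : B ≤ centralizer (X : Set G) :=
    h.lb.Bc.trans (centralizer_le (by exact_mod_cast hXJ))
  obtain ⟨T', F', hp', hle⟩ := exists_pairH h (hBMH _ hXc) hD hN hBX
    (char2_cent h.char2 (hS2.to_le hXJ) hX1) hcon
  have hsub : X ≤ ZJ ⊓ centralizer (T' : Set G) :=
    le_inf hXJ (le_centralizer_iff.1 (hp'.syl.1.trans hle))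
  have h2 : m < Nat.card (ZJ ⊓ centralizer (T' : Set G) : Subgroup G) := by
    rw [← hcard]
    refine lt_of_lt_of_le (lt_of_not_ge fun hge => hlt.ne (Subgroup.eq_of_le_of_card_ge hlt.le hge))
      (Nat.card_mono (Set.toFinite _) (hsub : (X : Set G) ⊆ _))
  exact absurd (hm.le_of_ge ⟨T', F', hp', hle.trans hXc, rfl⟩ h2.le) (not_le.2 h2)

/-- `K ≰ O₂(F)` for a pair. -/
theorem pair_nK (h : CrB S K B V ZJ) {M T F : Subgroup G} (hp : Pair K B V ZJ M T F)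
    (hZM : normalizer (ZJ : Set G) ≤ M) : ¬ K ≤ o2 F := fun hle =>
  hp.nM ((le_normalizer_o2 F).trans ((h.lb.nrm _ (isPGroup_o2 F) hle).trans hZM))

/-- `V` commutes with its conjugates under `F` -/
theorem comm_of_pair (h : CrB S K B V ZJ) {M T F : Subgroup G} (hp : Pair K B V ZJ M T F) {f : G} (hf : f ∈ F)
    {x y : G} (hx : x ∈ V) (hy : y ∈ V) : x * (f * y * f⁻¹) = f * y * f⁻¹ * x := by
  have hO : o2 F ≤ T := o2_le_syl hp.syl
  have hcO : cj f (o2 F) = o2 F := cj_eq_of_mem_normalizer (le_normalizer_o2 F hf)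
  refine h.noff T hp.syl.2.1 hp.BT f ?_ ?_ x hx y hy
  · have := cj_mono f hp.VO
    rw [hcO] at this
    exact this.trans hO
  · have := cj_mono f hO
    rw [hcO] at this
    exact hp.VO.trans this

/-- `Λ = ⟨V^F⟩` is elementary abelian. -/
theorem elab_Lam (h : CrB S K B V ZJ) (hel : IsElementaryAbelian 2 V) {M T F : Subgroup G}
    (hp : Pair K B V ZJ M T F) : IsElementaryAbelian 2 (NoFF.Basic.V V F) := by
  have h1 := Swap.elab_iSup (W := fun f : F => cj (f : G) V) (fun f f' x hx y hy => ?_)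
    fun f x hx => ?_
  · exact Swap.elab_of h1.1 h1.2
  · rw [mem_cj] at hx hy
    have h2 := comm_of_pair h hp (mul_mem (inv_mem f.2) f'.2) hx hy
    have e1 : (f : G)⁻¹ * f' * ((f' : G)⁻¹ * y * f') * ((f : G)⁻¹ * f')⁻¹ = (f : G)⁻¹ * y * f := by group
    rw [e1] at h2
    have h3 := congrArg (fun t => (f : G) * t * (f : G)⁻¹) h2
    have e2 : (f : G) * ((f : G)⁻¹ * x * f * ((f : G)⁻¹ * y * f)) * (f : G)⁻¹ = x * y := by group
    have e3 : (f : G) * ((f : G)⁻¹ * y * f * ((f : G)⁻¹ * x * f)) * (f : G)⁻¹ = y * x := by group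
    exact e2.symm.trans (h3.trans e3)
  · rw [mem_cj] at hx
    have h2 := SQ1.Bau.elem_sq hel _ hx
    rw [pow_two] at h2
    have e : x * x = f * ((f : G)⁻¹ * x * f * ((f : G)⁻¹ * x * f)) * (f : G)⁻¹ := by group
    rw [e, h2]; group

/-- `F` is a minimal parabolic over `T` -/
theorem pair_min (h : CrB S K B V ZJ) {M T F : Subgroup G} (hp : Pair K B V ZJ M T F)
    (hZM : normalizer (ZJ : Set G) ≤ M) : IsMinPar T F := by
  refine ⟨hp.syl.1, fun hle => ?_, F ⊓ M, lt_of_le_of_ne inf_le_left fun e => hp.nM (inf_eq_left.1 e),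
    fun R hTR hRF => le_inf hRF.le (hp.min R hTR hRF)⟩
  apply pair_nK h hp hZM
  exact (h.lb.KB.trans hp.BT).trans (le_o2 hp.syl.2.1 hp.syl.1 hle)

end CrB

/-- `Cr` gives `CrB` -/
theorem Cr.crB {ι : Type} {S : Sylow 2 G} {K B V ZJ : Subgroup G} {L W Z C : ι → Subgroup G}
    (h : Cr S K B V ZJ L W Z C) : CrB S K B V ZJ :=
  ⟨h.lb, h.wc, h.zcS, h.VB, fun g hg => (h.norm g hg).1, h.char2, h.low, h.noff, h.fixPt⟩

/-! ### The families of offenders -/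

/-- The families of offenders of a pair (`q`-free): the members `≤ T` lie in `B` and have the property `Pr`. -/
structure FmX (B V T F : Subgroup G) (Pr : Subgroup G → Prop) (𝓐 : Set (Subgroup G)) : Prop where
  fam : ∀ Λ : Subgroup G, IsElementaryAbelian 2 Λ → Λ ≤ F → F ≤ normalizer (Λ : Set G) →
    Λ ≤ NoFF.Basic.V V F → Fm F Λ 𝓐
  nJ : ∃ X ∈ 𝓐, X ≤ T ∧ ¬ X ≤ o2 F
  XB : ∀ X ∈ 𝓐, X ≤ T → X ≤ B
  act : ∀ X ∈ 𝓐, X ≤ T → Pr X

/-- the family of a pair, stage `n`: members `≤ T` centralise `V` or are best offenders on `Ω₁Z(lev S n)` -/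
theorem exists_fam_lev {S : Sylow 2 G} {V : Subgroup G} {n : ℕ} (hVX : V ≤ zc (lev (S : Subgroup G) n))
    (hZV : ZL (S : Subgroup G) n ≤ V) {M T F : Subgroup G}
    (hp : Pair (lev (S : Subgroup G) (n + 1)) (BL (S : Subgroup G) n) V (ZL (S : Subgroup G) n) M T F)
    (hD : centralizer (ZL (S : Subgroup G) n : Set G) ≤ M)
    (hZM : normalizer (ZL (S : Subgroup G) n : Set G) ≤ M) (hTM : T ≤ M) :
    ∃ 𝓐 : Set (Subgroup G), FmX (BL (S : Subgroup G) n) V T F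
      (fun X => (∀ a ∈ X, ∀ v ∈ V, a * v = v * a) ∨ Best (zc (lev (S : Subgroup G) n)) X) 𝓐 := by
  classical
  have hT2 := hp.syl.2.1
  have hcV : ∀ a ∈ lev (S : Subgroup G) n, ∀ v ∈ V, a * v = v * a := fun a ha v hv =>
    (mem_zc.1 (hVX hv)).2.2 a ha
  have hVs : ∀ s, s ≤ n → V ≤ zc (lev (S : Subgroup G) s) := fun s hs =>
    hVX.trans ((lev_isLev (S : Subgroup G) s).zc_le_zc (NO3S.Level.lev_mono _ hs)
      (NO3S.Level.lev_le (S : Subgroup G) n))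
  have hKT : lev (S : Subgroup G) (n + 1) ≤ T := (lb S n).KB.trans hp.BT
  have h0T : jj (S : Subgroup G) ≤ T :=
    (NO3S.Level.lev_mono (S : Subgroup G) (Nat.zero_le (n + 1))).trans hKT
  have hnK : ¬ lev (S : Subgroup G) (n + 1) ≤ o2 F := fun hle =>
    hp.nM ((le_normalizer_o2 F).trans (((lb S n).nrm _ (isPGroup_o2 F) hle).trans hZM))
  have hmp : IsMinPar T F := by
    refine ⟨hp.syl.1, fun hle => ?_, F ⊓ M, lt_of_le_of_ne inf_le_left fun e => hp.nM (inf_eq_left.1 e),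
      fun R hTR hRF => le_inf hRF.le (hp.min R hTR hRF)⟩
    apply hnK
    exact ((lb S n).KB.trans hp.BT).trans (le_o2 hp.syl.2.1 hp.syl.1 hle)
  have hstg : ¬ jj (S : Subgroup G) ≤ o2 F ∨ ∃ s, s ≤ n ∧ lev (S : Subgroup G) s ≤ o2 F ∧
      ¬ lev (S : Subgroup G) (s + 1) ≤ o2 F := by
    by_cases h0 : jj (S : Subgroup G) ≤ o2 F
    · right
      have hex : ∃ m, ¬ lev (S : Subgroup G) m ≤ o2 F := ⟨n + 1, hnK⟩
      obtain ⟨m, hm, hmin⟩ : ∃ m, ¬ lev (S : Subgroup G) m ≤ o2 F ∧ ∀ k, k < m → lev (S : Subgroup G) k ≤ o2 F :=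
        ⟨Nat.find hex, Nat.find_spec hex, fun k hk => by
          by_contra hcon
          exact Nat.find_min hex hk hcon⟩
      have hmn : m ≤ n + 1 := by
        by_contra hcon
        exact hnK (hmin (n + 1) (by omega))
      obtain ⟨s, rfl⟩ : ∃ s, m = s + 1 := by
        refine ⟨m - 1, ?_⟩
        have : m ≠ 0 := by
          rintro rfl
          exact hm h0
        omega
      exact ⟨s, by omega, hmin s (by omega), hm⟩
    · exact Or.inl h0
  rcases hstg with hJ | ⟨s, hs, hlow, hnle⟩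
  · -- stage `-1`
    have hjT : jj T = jj (S : Subgroup G) := MinSimple.EmptyTI.jj_eq S hT2 h0T
    have hX2 : ∀ X ∈ AA F, X ≤ T → X ≤ lev (S : Subgroup G) n := fun X hX hXT => by
      have h1 : X ≤ lev (S : Subgroup G) 0 := by
        have := le_jj (Swap.AA_of_le hX hXT hp.syl.1)
        rwa [hjT] at this
      exact h1.trans (NO3S.Level.lev_mono _ (Nat.zero_le n))
    refine ⟨AA F, fun Λ hΛ hΛF hn _ => fm_AA hΛ hΛF hn, ?_, fun X hX hXT =>
      ((hX2 X hX hXT).trans (NO3S.Level.lev_mono _ (Nat.le_succ n))).trans (lb S n).KB, fun X hX hXT =>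
      Or.inl fun a ha v hv => hcV a (hX2 X hX hXT ha) v hv⟩
    by_contra hcon
    push Not at hcon
    apply hJ
    rw [← hjT, Cfsg.Agent.ZN.ChoiceBase.jj_eq]
    exact sSup_le fun X hX => hcon X (Swap.AA_of_syl hp.syl hX) hX.2.1
  · -- stage `s`
    have hX := zc_elab (lev (S : Subgroup G) s)
    have hFN : F ≤ normalizer (zc (lev (S : Subgroup G) s) : Set G) :=
      (le_normalizer_o2 F).trans ((LB.lev S s).nrm _ (isPGroup_o2 F) hlow)
    have hlev : ∀ j, j ≤ n + 1 → lev T j = lev (S : Subgroup G) j := LevD.lev_eq S hT2 hKT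
    have hX1 : ∀ X ∈ BF F (zc (lev (S : Subgroup G) s)), X ≤ T → X ≤ lev (S : Subgroup G) (s + 1) :=
      fun X hXA hXT => by
        rw [← hlev (s + 1) (by omega)]
        have e : lev T (s + 1) = nxt T (lev T s) := rfl
        rw [e, hlev s (by omega)]
        exact NO3S.Level.BO.le_nxt ⟨hXT, hXA.2.2⟩
    refine ⟨BF F (zc (lev (S : Subgroup G) s)), fun Λ hΛ hΛF hn hle => fm_best hX hFN ?_ hn, ?_,
      fun X hXA hXT => ((hX1 X hXA hXT).trans (NO3S.Level.lev_mono _ (by omega))).trans (lb S n).KB,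
      fun X hXA hXT => ?_⟩
    · refine hle.trans (NoFF.Basic.V_le fun f hf => ?_)
      have h1 := cj_mono f (hVs s hs)
      rwa [cj_eq_of_mem_normalizer (hFN hf)] at h1
    · by_contra hcon
      push Not at hcon
      apply hnle
      rw [← hlev (s + 1) (by omega)]
      have e : lev T (s + 1) = nxt T (lev T s) := rfl
      rw [e, hlev s (by omega)]
      have : Fact (Nat.Prime 2) := ⟨Nat.prime_two⟩
      have hNn : F ≤ normalizer ((F ⊓ centralizer (zc (lev (S : Subgroup G) s) : Set G) : Subgroup G) : Set G) := by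
        intro f hf
        rw [mem_normalizer_iff_cj, cj_inf, cj_centralizer, cj_eq_of_mem_normalizer (hFN hf),
          cj_eq_of_mem_normalizer (le_normalizer hf)]
      refine sup_le ?_ (sSup_le fun X hX' => hcon X ⟨hX'.1.trans hp.syl.1, hT2.to_le hX'.1, hX'.2⟩ hX'.1)
      rcases hmp.sup_eq_or_inf_le (p := 2) hT2 (syl_not_dvd hp.syl)
        (N := F ⊓ centralizer (zc (lev (S : Subgroup G) s) : Set G)) inf_le_left hNn with h1 | h1
      · exfalso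
        apply hp.nM
        rw [← h1]
        refine sup_le ((inf_le_right.trans (centralizer_le ?_)).trans hD) hTM
        exact_mod_cast hZV.trans (hVs s hs)
      · refine le_trans (fun x hx => ?_) h1
        exact ⟨hx.1, hp.syl.1 hx.1, hx.2⟩
    · rcases hs.lt_or_eq with hlt | rfl
      · left
        exact fun a ha v hv =>
          hcV a (NO3S.Level.lev_mono (S : Subgroup G) (by omega : s + 1 ≤ n) (hX1 X hXA hXT ha)) v hv
      · exact Or.inr fun F' h1 h2 => hXA.2.2.max F' h2 h1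

/-- the family of a pair, stage `-1`: `𝒜(F)`; the members `≤ T` lie in `𝒜(S)` -/
theorem exists_fam_neg {S : Sylow 2 G} {V : Subgroup G} {M T F : Subgroup G}
    (hp : Pair (jj (S : Subgroup G)) (bau (S : Subgroup G)) V (zj (S : Subgroup G)) M T F)
    (hZM : normalizer (zj (S : Subgroup G) : Set G) ≤ M) :
    ∃ 𝓐 : Set (Subgroup G), FmX (bau (S : Subgroup G)) V T F (fun X => X ∈ AA (S : Subgroup G)) 𝓐 := by
  have hb := LB.neg S
  have hnK : ¬ jj (S : Subgroup G) ≤ o2 F := fun hle =>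
    hp.nM ((le_normalizer_o2 F).trans ((hb.nrm _ (isPGroup_o2 F) hle).trans hZM))
  have hjT : jj T = jj (S : Subgroup G) := LemmaK.Main.jj_eq S hp.syl.2.1 hp.BT
  have hX : ∀ X ∈ AA F, X ≤ T → X ∈ AA (S : Subgroup G) := fun X hX hXT =>
    Swap.AA_two S hp.syl.2.1 hp.BT (Swap.AA_of_le hX hXT hp.syl.1)
  refine ⟨AA F, fun Λ hΛ hΛF hn _ => fm_AA hΛ hΛF hn, ?_, fun X hXA hXT =>
    (le_jj (hX X hXA hXT)).trans hb.KB, hX⟩
  by_contra hcon
  push Not at hcon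
  apply hnK
  rw [← hjT, Cfsg.Agent.ZN.ChoiceBase.jj_eq]
  exact sSup_le fun X hX => hcon X (Swap.AA_of_syl hp.syl hX) hX.2.1

/-! ### The instances -/

/-- **Stage `n`**, any `q`, from the frame `FrL`. -/
theorem crB_lev {ι : Type} [Finite ι] {S : Sylow 2 G} {V Q : Subgroup G} {n : ℕ} {L W Z C A : ι → Subgroup G} {q : ℕ}
    (hfr : FrL (BL (S : Subgroup G) n) Q V (zc (lev (S : Subgroup G) n)) (ZL (S : Subgroup G) n) L W Z C A q)
    (hG : IsCharacteristicTwoType G) (hlow : V ≤ o2 (centralizer (zc (S : Subgroup G) : Set G)))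
    (hoff : ∀ T : Subgroup G, IsPGroup 2 T → BL (S : Subgroup G) n ≤ T → ∀ f : G, cj f V ≤ T → V ≤ cj f T →
      ∀ x ∈ V, ∀ y ∈ V, x * (f * y * f⁻¹) = f * y * f⁻¹ * x) :
    CrB S (lev (S : Subgroup G) (n + 1)) (BL (S : Subgroup G) n) V (ZL (S : Subgroup G) n) where
  lb := lb S n
  wc := wc S n
  zcS := (lev_isLev (S : Subgroup G) (n + 1)).zc_le
  VB := hfr.VQ.trans hfr.QB
  nV := fun g hg => (hfr.norm_of hg (NO3S.Level.normalizer_le_zc _ (norm_lev S (by omega) hg))).1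
  char2 := hG
  low := hlow
  noff := hoff
  fixPt := fun _ _ hq =>
    inf_le_right.trans (LevD.fixPt S hq.syl ((lb S n).KB.trans hq.BT) hq.min hq.nK hq.cz)

/-- **Stage `-1`.** -/
theorem crB_neg {S : Sylow 2 G} {V : Subgroup G} (hVB : V ≤ bau (S : Subgroup G))
    (hnV : ∀ g ∈ normalizer (bau (S : Subgroup G) : Set G), cj g V = V)
    (hG : IsCharacteristicTwoType G) (hlow : V ≤ o2 (centralizer (zc (S : Subgroup G) : Set G)))
    (hoff : ∀ T : Subgroup G, IsPGroup 2 T → bau (S : Subgroup G) ≤ T → ∀ f : G, cj f V ≤ T → V ≤ cj f T →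
      ∀ x ∈ V, ∀ y ∈ V, x * (f * y * f⁻¹) = f * y * f⁻¹ * x) :
    CrB S (jj (S : Subgroup G)) (bau (S : Subgroup G)) V (zj (S : Subgroup G)) where
  lb := LB.neg S
  wc := UniPlus.wc_bau S
  zcS := zc_le_zj _
  VB := hVB
  nV := hnV
  char2 := hG
  low := hlow
  noff := hoff
  fixPt := fun _ _ hq =>
    inf_le_right.trans (LevD.fixPt_neg S hq.syl ((LB.neg S).KB.trans hq.BT) hq.min hq.nK hq.cz)

end Cfsg.Agent.Omega.OM.SwapV
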