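import Cfsg.Agent.Omega.OM.SwapV.Main

/-!
# THEOREM SW over an abstract frame: supports and (TI) from `C_G(C_ZJ(T) z_j) ≤ M` only

* `Cr.exists_norm` : elements of `Z_J` which are conjugate in `G` are conjugate in `N_G(B)`; `supp_card` (INV);
  `full_cent` : an element of `Z_J` of full support is centralised by every 2-group over `B`;
* `CrA S K B V ZJ L W Z C A` : the ground frame with the offenders `A i ≤ B` acting only on `W i`;
* `CrA.Ctx.ti` : `(T, F)` a pair, `r` an orbit of `O₂(F)` on the indices with at least two elements, `U = ∏_{j ∈ r} W j`: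
  if `1 ≠ x ∈ W i`, `i ∈ r`, `f ∈ F` and `f⁻¹ x f ∈ U`, then `f ∈ M`.
-/

set_option autoImplicit false
set_option linter.unusedSectionVars false

namespace Cfsg.Agent.Omega.OM.SwapV

open Subgroup Cfsg Cfsg.Agent.ZN.ChoiceBase Cfsg.Agent.ZN.ChoiceSit
open Cfsg.Agent.ZN (jj zj bau zc zl o2)
open Cfsg.Agent.Omega.OM.LevD (LB)
open Cfsg.Agent.PLocal.ElemAbSup
open Cfsg.Agent.Omega.SQ1.Bau (mem_sup_comm)
open Cfsg.Agent.Omega.OM.SwapL (cj_mul_eq cj_inv_eq)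

universe u

variable {G : Type u} [Group G] [Finite G]

namespace Cr

section

variable {ι : Type} [Finite ι] {S : Sylow 2 G} {K B V ZJ : Subgroup G} {L W Z C : ι → Subgroup G}

/-- elements of `Z_J` which are conjugate in `G` are conjugate in `N_G(B)` -/
theorem exists_norm (h : Cr S K B V ZJ L W Z C) {z z' g : G} (hz : z ∈ ZJ)
    (hz' : z' ∈ ZJ) (e : g * z * g⁻¹ = z') :
    ∃ m ∈ normalizer (B : Set G), m * z * m⁻¹ = z' := by
  have hB : B ≤ centralizer ({z'} : Set G) := by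
    intro b hb
    rw [mem_centralizer_singleton_iff]
    exact (mem_centralizer_iff.1 (h.lb.Bc hb) z' hz').symm
  have hgB : cj g B ≤ centralizer ({z'} : Set G) := by
    rintro _ ⟨b, hb, rfl⟩
    rw [mem_centralizer_singleton_iff, ← e]
    have h1 := mem_centralizer_iff.1 (h.lb.Bc hb) z hz
    change g * b * g⁻¹ * (g * z * g⁻¹) = g * z * g⁻¹ * (g * b * g⁻¹)
    calc g * b * g⁻¹ * (g * z * g⁻¹) = g * (b * z) * g⁻¹ := by group
      _ = g * (z * b) * g⁻¹ := by rw [h1]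
      _ = g * z * g⁻¹ * (g * b * g⁻¹) := by group
  obtain ⟨T, hT, hBT⟩ := exists_syl h.lb.Bp hB
  obtain ⟨T', hT', hBT'⟩ := exists_syl (isPGroup_cj g h.lb.Bp) hgB
  obtain ⟨c, hc, rfl⟩ := syl_conj hT hT'
  have h3 : cj (c⁻¹ * g) B ≤ T := by
    have := cj_mono c⁻¹ hBT'
    rwa [cj_inv_cj, cj_cj] at this
  have h4 := h.wc T hT.2.1 hBT _ h3
  refine ⟨c⁻¹ * g, mem_normalizer_iff_cj.2 h4, ?_⟩
  have h5 : c * z' = z' * c := mem_centralizer_singleton_iff.1 hc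
  calc c⁻¹ * g * z * (c⁻¹ * g)⁻¹ = c⁻¹ * (g * z * g⁻¹) * c := by group
    _ = c⁻¹ * (z' * c) := by rw [e]; group
    _ = z' := by rw [← h5]; group

/-- **(INV)** -/
theorem supp_card (h : Cr S K B V ZJ L W Z C) {z z' g : G} (hz : z ∈ ZJ)
    (hz' : z' ∈ ZJ) (e : g * z * g⁻¹ = z') : {i | z' ∉ C i}.ncard = {i | z ∉ C i}.ncard := by
  obtain ⟨m, hm, e'⟩ := exists_norm h hz hz' e
  choose σ hσ _ hσC using perm h hm
  have hinj : Function.Injective σ := fun i j hij => by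
    apply Z_inj h
    have h1 := hσ i
    rw [hij, ← hσ j] at h1
    have := congrArg (cj m⁻¹) h1
    rwa [cj_inv_cj, cj_inv_cj] at this
  have hsur : Function.Surjective σ := Finite.surjective_of_injective hinj
  have h1 : {i | z' ∉ C i} = σ '' {i | z ∉ C i} := by
    ext j
    constructor
    · intro hj
      obtain ⟨i, rfl⟩ := hsur j
      refine ⟨i, fun hc => hj ?_, rfl⟩
      rw [← e']
      exact (hσC i z hz).2 hc
    · rintro ⟨i, hi, rfl⟩ hc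
      rw [← e'] at hc
      exact hi ((hσC i z hz).1 hc)
  rw [h1, Set.ncard_image_of_injective _ hinj]

theorem supp_one (h : Cr S K B V ZJ L W Z C) {i : ι} {z : G} (hz : z ∈ Z i) (h1 : z ≠ 1) : {j | z ∉ C j} = {i} := by
  ext j
  constructor
  · intro hj
    by_contra hne
    exact hj (Z_C h hne hz)
  · rintro rfl
    exact not_mem_C h hz h1

theorem supp_two (h : Cr S K B V ZJ L W Z C) {i j : ι} (hij : i ≠ j) {z w : G} (hz : z ∈ Z i) (h1 : z ≠ 1)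
    (hw : w ∈ Z j) (h2 : w ≠ 1) : {k | z * w ∉ C k} = {i, j} := by
  ext k
  simp only [Set.mem_ofPred_eq, Set.mem_insert_iff, Set.mem_singleton_iff]
  constructor
  · intro hk
    by_contra hne
    push Not at hne
    exact hk (mul_mem (Z_C h hne.1 hz) (Z_C h hne.2 hw))
  · rintro (rfl | rfl) hc
    · exact not_mem_C h hz h1 ((Subgroup.mul_mem_cancel_right _ (Z_C h hij hw)).1 hc)
    · exact not_mem_C h hw h2 ((Subgroup.mul_mem_cancel_left _ (Z_C h (Ne.symm hij) hz)).1 hc)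

/-- `z_i z_k` is not conjugate to `z_j`. -/
theorem no_one_two (h : Cr S K B V ZJ L W Z C) {i k j : ι} (hik : i ≠ k) {a b c g : G} (ha : a ∈ Z i) (ha1 : a ≠ 1)
    (hb : b ∈ Z k) (hb1 : b ≠ 1) (hc : c ∈ Z j) (e : g * (a * b) * g⁻¹ = c) : False := by
  have hc1 : c ≠ 1 := by
    intro h1
    rw [h1] at e
    have h2 : a * b = 1 := by
      have := congrArg (fun t => g⁻¹ * t * g) e
      simpa [mul_assoc] using this
    have h3 : a ∈ C i := by
      have h4 : a = b⁻¹ := mul_eq_one_iff_eq_inv.1 h2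
      rw [h4]
      exact inv_mem (Z_C h hik hb)
    exact not_mem_C h ha ha1 h3
  have h1 := supp_card h (mul_mem (h.Z_le i ha) (h.Z_le k hb)) (h.Z_le j hc) e
  rw [supp_one h hc hc1, supp_two h hik ha ha1 hb hb1, Set.ncard_singleton, Set.ncard_pair hik] at h1
  omega

/-- A conjugate of `z_i` in `Z_J` is a `z_j`. -/
theorem eq_single (h : Cr S K B V ZJ L W Z C) {i : ι} {a y g : G} (ha : a ∈ Z i) (ha1 : a ≠ 1)
    (hy : y ∈ ZJ) (e : g * a * g⁻¹ = y) : ∃ j, y ∈ Z j ∧ y ∉ C j := by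
  have h1 := supp_card h (h.Z_le i ha) hy e
  rw [supp_one h ha ha1, Set.ncard_singleton, Set.ncard_eq_one] at h1
  obtain ⟨j, hj⟩ := h1
  obtain ⟨z, hz, hz1⟩ := Z_ne h j
  have hyj : y ∉ C j := by
    have : j ∈ {i | y ∉ C i} := by rw [hj]; exact rfl
    exact this
  refine ⟨j, ?_, hyj⟩
  have h2 : y = z := eq_of_supp h hy (h.Z_le j hz) fun k => by
    have h3 : k ∈ {i | y ∉ C i} ↔ k ∈ {i | z ∉ C i} := by rw [hj, supp_one h hz hz1]
    simp only [Set.mem_ofPred_eq] at h3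
    exact not_iff_not.1 h3
  rw [h2]
  exact hz

/-- An element of full support is centralised by every 2-group over `B`. -/
theorem full_cent (h : Cr S K B V ZJ L W Z C) {z : G} (hz : z ∈ ZJ) (hf : ∀ i, z ∉ C i)
    {T : Subgroup G} (hT : IsPGroup 2 T) (hB : B ≤ T) {t : G} (ht : t ∈ T) : t * z = z * t :=
  comm_of_supp h (h.lb.two_le hT hB ht) hz fun i j _ => ⟨fun hc => absurd hc (hf i), fun hc => absurd hc (hf j)⟩


/-- `B` centralises `Z_J` -/
theorem zB (h : Cr S K B V ZJ L W Z C) {z b : G} (hz : z ∈ ZJ) (hb : b ∈ B) : b * z = z * b :=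
  (mem_centralizer_iff.1 (h.lb.Bc hb) z hz).symm

/-- `B` acts on `W i` by transvections. -/
theorem act (h : Cr S K B V ZJ L W Z C) {i : ι} {z : G} (hz : z ∈ Z i) (hz1 : z ≠ 1) {b : G} (hb : b ∈ B) {x : G}
    (hx : x ∈ W i) : b * x * b⁻¹ = x ∨ b * x * b⁻¹ = x * z := by
  have h1 := (h.blk i).com b hb x hx
  by_cases h2 : b * x * b⁻¹ * x⁻¹ = 1
  · left; exact mul_inv_eq_one.1 h2
  · right
    have h3 := Z_eq h h1 hz h2 hz1
    have h4 : b * x * b⁻¹ = z * x := mul_inv_eq_iff_eq_mul.1 h3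
    rw [h4]
    exact h.Vc (h.ZV i hz) (h.WV i hx)

/-- an element of `W i` outside `Z i` and its multiples -/
theorem W_cases (h : Cr S K B V ZJ L W Z C) {i : ι} {x w : G} (hx : x ∈ W i) (hxZ : x ∉ Z i) (hw : w ∈ W i) :
    w ∈ Z i ∨ w * x⁻¹ ∈ Z i := by
  by_cases hwZ : w ∈ Z i
  · exact Or.inl hwZ
  right
  have h1 : ((Z i).subgroupOf (W i)).index = 2 := by
    have h2 := relIndex_mul_relIndex ⊥ (Z i) (W i) bot_le (Z_W h i)
    rw [relIndex_bot_left, relIndex_bot_left, (h.blk i).card, h.cardZ i] at h2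
    have h3 : (Z i).relIndex (W i) = 2 := by omega
    exact h3
  have h2 : (⟨w, hw⟩ : W i) * ⟨x⁻¹, inv_mem hx⟩ ∈ (Z i).subgroupOf (W i) := by
    rw [Subgroup.mul_mem_iff_of_index_two h1]
    constructor
    · intro h3
      exact absurd (mem_subgroupOf.1 h3) hwZ
    · intro h3
      exact absurd (inv_mem_iff.1 (mem_subgroupOf.1 h3)) hxZ
  exact mem_subgroupOf.1 h2

/-- `b ∈ B` which moves `W i` moves every element of `W i` outside `Z i`. -/
theorem mv_act (h : Cr S K B V ZJ L W Z C) {i : ι} {b z : G} (hb : b ∈ B)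
    (hm : ∃ w ∈ W i, b * w ≠ w * b) (hz : z ∈ Z i) (hz1 : z ≠ 1) {x : G} (hx : x ∈ W i) (hxZ : x ∉ Z i) :
    b * x * b⁻¹ = x * z := by
  rcases act h hz hz1 hb hx with h1 | h1
  · exfalso
    obtain ⟨w, hw, hne⟩ := hm
    apply hne
    have c1 : Commute b x := mul_inv_eq_iff_eq_mul.1 h1
    have cZ : ∀ y ∈ Z i, Commute b y := fun y hy => mul_inv_eq_iff_eq_mul.1 (by
      rw [(h.blk i).cZ b hb y hy]; group)
    rcases W_cases h hx hxZ hw with h2 | h2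
    · exact (cZ w h2).eq
    · have h3 := (cZ _ h2).mul_right c1
      rw [inv_mul_cancel_right] at h3
      exact h3.eq
  · exact h1

/-- two elements of `B` which move `W i` act in the same way on `W i` -/
theorem same_act (h : Cr S K B V ZJ L W Z C) {i : ι} {a b : G} (ha : a ∈ B)
    (hb : b ∈ B) (hma : ∃ w ∈ W i, a * w ≠ w * a) (hmb : ∃ w ∈ W i, b * w ≠ w * b) {x : G}
    (hx : x ∈ W i) : a * x * a⁻¹ = b * x * b⁻¹ := by
  obtain ⟨z, hz, hz1⟩ := Z_ne h i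
  by_cases hxZ : x ∈ Z i
  · rw [(h.blk i).cZ a ha x hxZ, (h.blk i).cZ b hb x hxZ]; group
  · rw [mv_act h ha hma hz hz1 hx hxZ, mv_act h hb hmb hz hz1 hx hxZ]


end

end Cr

/-- The ground frame with offenders. -/
structure CrA {ι : Type} (S : Sylow 2 G) (K B V ZJ : Subgroup G) (L W Z C A : ι → Subgroup G) : Prop extends
    Cr S K B V ZJ L W Z C where
  WC : ∀ i, ∀ v ∈ V, ∃ w ∈ W i, ∃ c ∈ C i, v = w * c
  AB : ∀ i, A i ≤ B
  Ane : ∀ i, ¬ ∀ a ∈ A i, ∀ v ∈ W i, a * v = v * a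
  AC : ∀ i, ∀ a ∈ A i, ∀ c ∈ C i, a * c = c * a
  fmem : ∀ v ∈ V, (∀ i, ∀ a ∈ A i, a * v = v * a) → v ∈ ZJ
  fnWr : ∀ (r : Set ι) (i : ι), i ∈ r → ∀ l ∈ L i, ∀ x ∈ ⨆ j ∈ r, W j, l * x * l⁻¹ ∈ ⨆ j ∈ r, W j
  fstep : ∀ i, ∀ v ∈ V, ∃ l ∈ L i, ∀ a ∈ A i, a * (l * v * l⁻¹) = l * v * l⁻¹ * a
  fkeep : ∀ i j, i ≠ j → ∀ l ∈ L i, ∀ v ∈ V, (∀ a ∈ A j, a * v = v * a) →
    ∀ a ∈ A j, a * (l * v * l⁻¹) = l * v * l⁻¹ * a

namespace CrA

open Cr

variable {ι : Type} [Finite ι] {S : Sylow 2 G} {K B V ZJ : Subgroup G} {L W Z C A : ι → Subgroup G}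

omit [Finite ι] in
theorem A_comm (h : CrA S K B V ZJ L W Z C A) {i : ι} {a : G} (ha : a ∈ A i) {v : G} (hv : v ∈ V) :
    a * v * a⁻¹ * v⁻¹ ∈ Z i := by
  obtain ⟨w, hw, c, hc, rfl⟩ := h.WC i v hv
  have h1 := h.AC i a ha c hc
  have e : a * (w * c) * a⁻¹ * (w * c)⁻¹ = a * w * a⁻¹ * (a * c * a⁻¹) * c⁻¹ * w⁻¹ := by group
  have e2 : a * c * a⁻¹ = c := mul_inv_eq_iff_eq_mul.2 h1
  rw [e, e2, mul_inv_cancel_right]
  exact (h.blk i).com a (h.AB i ha) w hw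

omit [Finite ι] in
theorem mem_ZJ_of (h : CrA S K B V ZJ L W Z C A) {v : G} (hv : v ∈ V)
    (hA : ∀ i, ∀ a ∈ A i, a * v = v * a) : v ∈ ZJ := h.fmem v hv hA

omit [Finite ι] in
theorem nWr (h : CrA S K B V ZJ L W Z C A) {r : Set ι} {i : ι} (hi : i ∈ r) {l : G} (hl : l ∈ L i) {x : G}
    (hx : x ∈ ⨆ j ∈ r, W j) : l * x * l⁻¹ ∈ ⨆ j ∈ r, W j := h.fnWr r i hi l hl x hx

omit [Finite ι] in
theorem step (h : CrA S K B V ZJ L W Z C A) (i : ι) {v : G} (hv : v ∈ V) :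
    ∃ l ∈ L i, ∀ a ∈ A i, a * (l * v * l⁻¹) = l * v * l⁻¹ * a := h.fstep i v hv

omit [Finite ι] in
theorem keep (h : CrA S K B V ZJ L W Z C A) {i j : ι} (hij : i ≠ j) {l v : G} (hl : l ∈ L i) (hv : v ∈ V)
    (hj : ∀ a ∈ A j, a * v = v * a) : ∀ a ∈ A j, a * (l * v * l⁻¹) = l * v * l⁻¹ * a :=
  h.fkeep i j hij l hl v hv hj

/-- a member of `A i` which moves `W i` -/
theorem exists_tv (h : CrA S K B V ZJ L W Z C A) (i : ι) : ∃ a ∈ A i, ∃ w ∈ W i, a * w ≠ w * a := by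
  have := h.Ane i
  push Not at this
  exact this

/-- The data of (TI). -/
structure Ctx (S : Sylow 2 G) (K B V ZJ : Subgroup G) (L W Z C A : ι → Subgroup G) (M T F : Subgroup G)
    (r : Set ι) (z : ι → G) (tv : ι → G) : Prop where
  h : CrA S K B V ZJ L W Z C A
  hp : Pair K B V ZJ M T F
  LM : ∀ i, L i ≤ M
  NM : normalizer (B : Set G) ≤ M
  cen : ∀ i ∈ r, centralizer ((ZJ ⊓ centralizer (T : Set G) ⊔ Z i : Subgroup G) : Set G) ≤ M
  zZ : ∀ i, z i ∈ Z i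
  zn : ∀ i, z i ≠ 1
  tvA : ∀ i, tv i ∈ A i
  tvm : ∀ i, ∃ w ∈ W i, tv i * w ≠ w * tv i
  tr : ∀ i ∈ r, ∀ j ∈ r, ∃ o ∈ o2 F, cj o (Z i) = Z j
  inv : ∀ o ∈ o2 F, ∀ i j, cj o (Z i) = Z j → (i ∈ r ↔ j ∈ r)
  nt : ∀ i ∈ r, ∃ j ∈ r, j ≠ i

namespace Ctx

variable {M T F : Subgroup G} {r : Set ι} {z tv : ι → G} (c : Ctx S K B V ZJ L W Z C A M T F r z tv)
include c

theorem tvB (i : ι) : tv i ∈ B := c.h.AB i (c.tvA i)

theorem O_le : o2 F ≤ T := o2_le_syl c.hp.syl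

theorem TN : T ≤ normalizer (B : Set G) := c.h.lb.two_le c.hp.syl.2.1 c.hp.BT

theorem ON {o : G} (ho : o ∈ o2 F) : o ∈ normalizer (B : Set G) := c.TN (c.O_le ho)

theorem TF : T ≤ F := c.hp.syl.1

theorem TM : T ≤ M := c.TN.trans c.NM

theorem OF {o f : G} (ho : o ∈ o2 F) (hf : f ∈ F) : f * o * f⁻¹ ∈ o2 F :=
  (mem_normalizer_iff.1 (le_normalizer_o2 F hf) o).1 ho

theorem OF' {o f : G} (ho : o ∈ o2 F) (hf : f ∈ F) : f⁻¹ * o * f ∈ o2 F := by
  have := c.OF ho (inv_mem hf)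
  rwa [inv_inv] at this

/-- `z i` moves to `z j` -/
theorem gen {o : G} {i j : ι} (e : cj o (Z i) = Z j) : o * z i * o⁻¹ = z j :=
  conj_gen c.h.toCr e (c.zZ i) (c.zn i) (c.zZ j) (c.zn j)

theorem eqz {i : ι} {x : G} (hx : x ∈ Z i) (h1 : x ≠ 1) : x = z i := Z_eq c.h.toCr hx (c.zZ i) h1 (c.zn i)

theorem zU {i : ι} (hi : i ∈ r) : z i ∈ ⨆ j ∈ r, W j :=
  (le_iSup₂_of_le i hi le_rfl : W i ≤ ⨆ j ∈ r, W j) (Z_W c.h.toCr i (c.zZ i))

theorem UV : (⨆ j ∈ r, W j) ≤ V := iSup₂_le fun i _ => c.h.WV i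

/-- `O₂(F)` normalises `U`. -/
theorem nU {o u : G} (ho : o ∈ o2 F) (hu : u ∈ ⨆ j ∈ r, W j) : o * u * o⁻¹ ∈ ⨆ j ∈ r, W j := by
  have h1 : (⨆ j ∈ r, W j) ≤ (⨆ j ∈ r, W j).comap (MulAut.conj o).toMonoidHom := by
    refine iSup₂_le fun j hj w hw => ?_
    change o * w * o⁻¹ ∈ ⨆ j ∈ r, W j
    obtain ⟨k, hk, hkW, -⟩ := perm c.h.toCr (c.ON ho) j
    have hkr := (c.inv o ho j k hk).1 hj
    refine (le_iSup₂_of_le k hkr le_rfl : W k ≤ ⨆ j ∈ r, W j) ?_
    rw [← hkW]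
    exact ⟨w, hw, rfl⟩
  exact h1 hu

/-- `F` centralises `C_ZJ(T)`. -/
theorem F_cent {x f : G} (hx : x ∈ ZJ ⊓ centralizer (T : Set G)) (hf : f ∈ F) : f * x = x * f := by
  have h1 : x ∈ centralizer (F : Set G) :=
    c.hp.fix ⟨hx.1, centralizer_le (by exact_mod_cast c.O_le) hx.2⟩
  exact mem_centralizer_iff.1 h1 f hf

/-- The end: `g ∈ C_G(C_ZJ(T))` which centralises `z i` lies in `M`. -/
theorem mem_M {g : G} {i : ι} (hi : i ∈ r)
    (hg : ∀ x ∈ ZJ ⊓ centralizer (T : Set G), g * x = x * g) (hz : g * z i * g⁻¹ = z i) : g ∈ M := by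
  refine c.cen i hi ?_
  have h1 : (ZJ ⊓ centralizer (T : Set G) ⊔ Z i : Subgroup G) ≤ centralizer ({g} : Set G) := by
    refine sup_le (fun x hx => ?_) fun x hx => ?_ <;> rw [mem_centralizer_singleton_iff]
    · exact (hg x hx).symm
    · by_cases hx1 : x = 1
      · rw [hx1]; simp
      · rw [c.eqz hx hx1]
        exact (mul_inv_eq_iff_eq_mul.1 hz).symm
  rw [mem_centralizer_iff]
  intro x hx
  exact mem_centralizer_singleton_iff.1 (h1 hx)

/-- the action of `tv l` on `U` is that of any `b ∈ B` moving `W l` and centralising the other `W m`, `m ∈ r` -/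
theorem tv_act {l : ι} {b u : G} (hb : b ∈ B) (hm : ∃ w ∈ W l, b * w ≠ w * b)
    (hc : ∀ m ∈ r, m ≠ l → ∀ w ∈ W m, b * w = w * b) (hu : u ∈ ⨆ j ∈ r, W j) :
    b * u * b⁻¹ = tv l * u * (tv l)⁻¹ := by
  have h1 : (⨆ j ∈ r, W j) ≤ centralizer ({(tv l)⁻¹ * b} : Set G) := by
    refine iSup₂_le fun m hmr w hw => ?_
    rw [mem_centralizer_singleton_iff]
    have h2 : b * w * b⁻¹ = tv l * w * (tv l)⁻¹ := by
      by_cases hml : m = l
      · subst hml
        exact same_act c.h.toCr hb (c.tvB m) hm (c.tvm m) hw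
      · rw [hc m hmr hml w hw, c.h.AC l (tv l) (c.tvA l) w (c.h.WjC l m (Ne.symm hml) hw)]; group
    calc w * ((tv l)⁻¹ * b) = (tv l)⁻¹ * (tv l * w * (tv l)⁻¹) * b := by group
      _ = (tv l)⁻¹ * (b * w * b⁻¹) * b := by rw [h2]
      _ = (tv l)⁻¹ * b * w := by group
  have h2 := mem_centralizer_singleton_iff.1 (h1 hu)
  calc b * u * b⁻¹ = tv l * ((tv l)⁻¹ * b * u) * b⁻¹ := by group
    _ = tv l * (u * ((tv l)⁻¹ * b)) * b⁻¹ := by rw [h2]
    _ = _ := by group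

/-- an element of `V` moved by `tv j` moves to `u z_j` -/
theorem tv_mv {j : ι} {u : G} (hu : u ∈ V) (hm : tv j * u ≠ u * tv j) :
    tv j * u * (tv j)⁻¹ = u * z j := by
  have h1 := c.h.A_comm (c.tvA j) hu
  have h2 : tv j * u * (tv j)⁻¹ * u⁻¹ ≠ 1 := fun e => hm (mul_inv_eq_iff_eq_mul.1 (mul_inv_eq_one.1 e))
  have h3 := c.eqz h1 h2
  have h4 : tv j * u * (tv j)⁻¹ = z j * u := mul_inv_eq_iff_eq_mul.1 h3
  rw [h4]
  exact c.h.Vc (c.h.ZV j (c.zZ j)) hu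

theorem tv_z (i j : ι) : tv j * z i = z i * tv j :=
  c.h.zB (c.h.Z_le i (c.zZ i)) (c.tvB j)

/-- the element `o tv_j o⁻¹ tv_j⁻¹` of `O₂(F)` -/
theorem com_act {o : G} (ho : o ∈ o2 F) {j l : ι} (hj : j ∈ r) (e : cj o (Z j) = Z l) {u : G}
    (hu : u ∈ ⨆ j ∈ r, W j) (hm : tv j * u ≠ u * tv j) :
    ∃ o' ∈ o2 F, (tv l * u = u * tv l → o' * u * o'⁻¹ = u * z j) ∧
      (tv l * u ≠ u * tv l → o' * u * o'⁻¹ = u * z l * z j) := by
  have huV := c.UV hu
  have h1 : ∀ v ∈ ⨆ j ∈ r, W j, (o * tv j * o⁻¹) * v * (o * tv j * o⁻¹)⁻¹ = tv l * v * (tv l)⁻¹ := by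
    intro v hv
    have hoN := c.ON ho
    have hW := W_cj c.h.toCr hoN e
    refine c.tv_act ?_ ?_ ?_ hv
    · rw [← cj_eq_of_mem_normalizer hoN]
      exact ⟨tv j, c.tvB j, rfl⟩
    · obtain ⟨w, hw, hne⟩ := c.tvm j
      refine ⟨o * w * o⁻¹, by rw [← hW]; exact ⟨w, hw, rfl⟩, fun h2 => hne ?_⟩
      have := congrArg (fun t => o⁻¹ * t * o) h2
      simpa [mul_assoc] using this
    · intro m hmr hml w hw
      -- `W m = (W m')^o`, `m' ≠ j`
      obtain ⟨k, hk, hkW, -⟩ := perm c.h.toCr (inv_mem hoN) m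
      have hkj : k ≠ j := by
        rintro rfl
        apply hml
        apply Z_inj c.h.toCr
        rw [← e, ← hk, cj_cj_inv]
      have h2 : o⁻¹ * w * o ∈ W k := by
        rw [← hkW]
        exact ⟨w, hw, by change o⁻¹ * w * o⁻¹⁻¹ = _; rw [inv_inv]⟩
      have h3 := c.h.AC j (tv j) (c.tvA j) _ (c.h.WjC j k (Ne.symm hkj) h2)
      calc o * tv j * o⁻¹ * w = o * (tv j * (o⁻¹ * w * o)) * o⁻¹ := by group
        _ = o * ((o⁻¹ * w * o) * tv j) * o⁻¹ := by rw [h3]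
        _ = w * (o * tv j * o⁻¹) := by group
  have hz := c.tv_z
  -- `tv_j⁻¹ u tv_j = u z_j`
  have h2 : (tv j)⁻¹ * u * tv j = u * z j := by
    have h3 := c.tv_mv huV hm
    have h4 : u = (tv j)⁻¹ * (u * z j) * tv j := by rw [← h3]; group
    have h5 : (tv j)⁻¹ * (u * z j) * tv j = (tv j)⁻¹ * u * tv j * z j := by
      have h6 := hz j j
      calc (tv j)⁻¹ * (u * z j) * tv j = (tv j)⁻¹ * u * (z j * tv j) := by group
        _ = (tv j)⁻¹ * u * (tv j * z j) := by rw [h6]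
        _ = _ := by group
    have h6 : z j * z j = 1 := by
      have := SQ1.Bau.elem_sq c.h.el (z j) (c.h.ZV j (c.zZ j))
      rwa [pow_two] at this
    have h7 : (tv j)⁻¹ * u * tv j = (tv j)⁻¹ * u * tv j * z j * z j := by rw [mul_assoc _ (z j) (z j), h6, mul_one]
    rw [h7, ← h5, ← h4]
  refine ⟨o * tv j * o⁻¹ * (tv j)⁻¹, ?_, ?_, ?_⟩
  · have h3 : tv j ∈ F := c.TF (c.hp.BT (c.tvB j))
    have h4 := mul_mem ho (c.OF (inv_mem ho) h3)
    have e1 : o * (tv j * o⁻¹ * (tv j)⁻¹) = o * tv j * o⁻¹ * (tv j)⁻¹ := by group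
    rwa [e1] at h4
  · intro hl
    have e1 : o * tv j * o⁻¹ * (tv j)⁻¹ * u * (o * tv j * o⁻¹ * (tv j)⁻¹)⁻¹ =
      (o * tv j * o⁻¹) * ((tv j)⁻¹ * u * tv j) * (o * tv j * o⁻¹)⁻¹ := by group
    rw [e1, h2, h1 _ (mul_mem hu (c.zU hj))]
    have e2 : tv l * (u * z j) * (tv l)⁻¹ = (tv l * u) * z j * (tv l)⁻¹ := by group
    rw [e2, hl]
    have e3 : u * tv l * z j * (tv l)⁻¹ = u * (tv l * z j) * (tv l)⁻¹ := by group
    rw [e3, hz j l]; group
  · intro hl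
    have e1 : o * tv j * o⁻¹ * (tv j)⁻¹ * u * (o * tv j * o⁻¹ * (tv j)⁻¹)⁻¹ =
      (o * tv j * o⁻¹) * ((tv j)⁻¹ * u * tv j) * (o * tv j * o⁻¹)⁻¹ := by group
    rw [e1, h2, h1 _ (mul_mem hu (c.zU hj))]
    have e2 : tv l * (u * z j) * (tv l)⁻¹ = (tv l * u * (tv l)⁻¹) * (tv l * z j * (tv l)⁻¹) := by group
    have e3 : tv l * z j * (tv l)⁻¹ = z j := by rw [hz j l]; group
    rw [e2, e3, c.tv_mv huV hl]

theorem UC {j : ι} (hj : j ∉ r) : (⨆ j ∈ r, W j) ≤ C j :=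
  iSup₂_le fun m hm => c.h.WjC j m fun e => hj (e ▸ hm)

theorem cV {u v : G} (hu : u ∈ V) (hv : v ∈ V) : u * v = v * u :=
  c.h.Vc hu hv

theorem sqV {u : G} (hu : u ∈ V) : u * u = 1 := by
  have := SQ1.Bau.elem_sq c.h.el u hu
  rwa [pow_two] at this

theorem zV (i : ι) : z i ∈ V := c.h.ZV i (c.zZ i)

/-- elements of `Z_J` with support `r` are centralised by `F` -/
theorem r_cent {x : G} (hx : x ∈ ZJ) (hs : ∀ k, x ∈ C k ↔ k ∉ r) {f : G} (hf : f ∈ F) :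
    f * x = x * f := by
  have h1 : x ∈ centralizer (F : Set G) := c.hp.fix ⟨hx, mem_centralizer_iff.2 fun o ho =>
    comm_of_supp c.h.toCr (c.ON ho) hx fun i j e => by rw [hs i, hs j, c.inv o ho i j e]⟩
  exact mem_centralizer_iff.1 h1 f hf

/-! ### The conjugates `f⁻¹ z_p f` -/

theorem yU {f : G} (hf : f ∈ F) {i : ι} (hi : i ∈ r) (hy : f⁻¹ * z i * f ∈ ⨆ j ∈ r, W j) {p : ι} (hp : p ∈ r) :
    f⁻¹ * z p * f ∈ ⨆ j ∈ r, W j := by
  obtain ⟨o, ho, e⟩ := c.tr i hi p hp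
  have h1 := c.nU (c.OF' ho hf) hy
  have e1 : f⁻¹ * o * f * (f⁻¹ * z i * f) * (f⁻¹ * o * f)⁻¹ = f⁻¹ * (o * z i * o⁻¹) * f := by group
  rwa [e1, c.gen e] at h1

theorem yorb {f : G} (hf : f ∈ F) {o : G} (ho : o ∈ o2 F) {p : ι} (hp : p ∈ r) :
    ∃ p' ∈ r, o * (f⁻¹ * z p * f) * o⁻¹ = f⁻¹ * z p' * f := by
  have ho' := c.OF ho hf
  obtain ⟨p', h1, -, -⟩ := perm c.h.toCr (c.ON ho') p
  refine ⟨p', (c.inv _ ho' p p' h1).1 hp, ?_⟩
  have e1 : o * (f⁻¹ * z p * f) * o⁻¹ = f⁻¹ * (f * o * f⁻¹ * z p * (f * o * f⁻¹)⁻¹) * f := by group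
  rw [e1, c.gen h1]

/-- **(A)** -/
theorem mv_all {f : G} (hf : f ∈ F) (hU : ∀ p ∈ r, f⁻¹ * z p * f ∈ ⨆ j ∈ r, W j) {p j l : ι} (hp : p ∈ r)
    (hj : j ∈ r) (hl : l ∈ r) (hm : tv j * (f⁻¹ * z p * f) ≠ f⁻¹ * z p * f * tv j) :
    tv l * (f⁻¹ * z p * f) ≠ f⁻¹ * z p * f * tv l := by
  intro hn
  obtain ⟨o, ho, e⟩ := c.tr j hj l hl
  obtain ⟨o', ho', h1, -⟩ := c.com_act ho hj e (hU p hp) hm
  obtain ⟨p', hp', h2⟩ := c.yorb hf ho' hp
  rw [h1 hn] at h2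
  have h3 : f⁻¹ * (z p * z p') * f⁻¹⁻¹ = z j := by
    have e1 : f⁻¹ * (z p * z p') * f⁻¹⁻¹ = (f⁻¹ * z p * f) * (f⁻¹ * z p' * f) := by group
    rw [e1, ← h2, ← mul_assoc, c.sqV (c.UV (hU p hp)), one_mul]
  by_cases hpp : p = p'
  · subst hpp
    rw [c.sqV (c.zV p)] at h3
    apply c.zn j
    rw [← h3]; group
  · exact no_one_two c.h.toCr hpp (c.zZ p) (c.zn p) (c.zZ p') (c.zn p') (c.zZ j) h3

omit [Finite G] c in
theorem prod_lem {y a b d : G} (hya : y * a = a * y) (hyb : y * b = b * y) (hyd : y * d = d * y) (hab : a * b = b * a)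
    (had : a * d = d * a) (hbd : b * d = d * b) (hy : y * y = 1) (ha : a * a = 1) (hb : b * b = 1) (hd : d * d = 1) :
    y * a * b * (y * d * b) * (y * d * a) = y := by
  have c1 : Commute y a := hya
  have c2 : Commute y b := hyb
  have c3 : Commute y d := hyd
  have c4 : Commute a b := hab
  have c5 : Commute a d := had
  have c6 : Commute b d := hbd
  have h1 : a * b * (y * d * b) = y * (a * d) := by
    have k : Commute (a * b) y := (c1.symm.mul_left c2.symm)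
    calc a * b * (y * d * b) = (a * b * y) * (d * b) := by group
      _ = y * (a * b) * (d * b) := by rw [k.eq]
      _ = y * a * (b * d) * b := by group
      _ = y * a * (d * b) * b := by rw [c6.eq]
      _ = y * (a * d) * (b * b) := by group
      _ = _ := by rw [hb, mul_one]
  have h2 : y * (a * d) * (y * d * a) = 1 := by
    have k : Commute (a * d) y := (c1.symm.mul_left c3.symm)
    calc y * (a * d) * (y * d * a) = y * ((a * d) * y) * (d * a) := by group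
      _ = y * (y * (a * d)) * (d * a) := by rw [k.eq]
      _ = (y * y) * a * (d * d) * a := by group
      _ = 1 := by rw [hy, hd, one_mul, mul_one, ha]
  calc y * a * b * (y * d * b) * (y * d * a) = y * (a * b * (y * d * b)) * (y * d * a) := by group
    _ = y * (y * (a * d) * (y * d * a)) := by rw [h1]; group
    _ = y := by rw [h2, mul_one]

/-- **(B)** three indices -/
theorem no_three {f : G} (hf : f ∈ F) (hU : ∀ p ∈ r, f⁻¹ * z p * f ∈ ⨆ j ∈ r, W j) {p j l m : ι} (hp : p ∈ r)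
    (hj : j ∈ r) (hl : l ∈ r) (hm : m ∈ r) (hjl : j ≠ l) (hjm : j ≠ m) (hlm : l ≠ m)
    (hmv : tv j * (f⁻¹ * z p * f) ≠ f⁻¹ * z p * f * tv j) : False := by
  have hml := c.mv_all hf hU hp hj hl hmv
  have hmm := c.mv_all hf hU hp hj hm hmv
  obtain ⟨o1, ho1, e1⟩ := c.tr j hj l hl
  obtain ⟨o2', ho2, e2⟩ := c.tr j hj m hm
  obtain ⟨o3, ho3, e3⟩ := c.tr l hl m hm
  obtain ⟨a1, ha1, -, h1⟩ := c.com_act ho1 hj e1 (hU p hp) hmv
  obtain ⟨a2, ha2, -, h2⟩ := c.com_act ho2 hj e2 (hU p hp) hmv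
  obtain ⟨a3, ha3, -, h3⟩ := c.com_act ho3 hl e3 (hU p hp) hml
  obtain ⟨p1, hp1, k1⟩ := c.yorb hf ha1 hp
  obtain ⟨p2, hp2, k2⟩ := c.yorb hf ha2 hp
  obtain ⟨p3, hp3, k3⟩ := c.yorb hf ha3 hp
  rw [h1 hml] at k1
  rw [h2 hmm] at k2
  rw [h3 hmm] at k3
  have hyV := c.UV (hU p hp)
  have key := prod_lem (c.cV hyV (c.zV l)) (c.cV hyV (c.zV j)) (c.cV hyV (c.zV m)) (c.cV (c.zV l) (c.zV j))
    (c.cV (c.zV l) (c.zV m)) (c.cV (c.zV j) (c.zV m)) (c.sqV hyV) (c.sqV (c.zV l)) (c.sqV (c.zV j)) (c.sqV (c.zV m))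
  rw [k1, k2, k3] at key
  have key2 : z p1 * z p2 * z p3 = z p := by
    have := congrArg (fun t => f * t * f⁻¹) key
    have e4 : f * (f⁻¹ * z p1 * f * (f⁻¹ * z p2 * f) * (f⁻¹ * z p3 * f)) * f⁻¹ = z p1 * z p2 * z p3 := by group
    have e5 : f * (f⁻¹ * z p * f) * f⁻¹ = z p := by group
    exact e4.symm.trans (this.trans e5)
  have ne : ∀ {a b q : ι}, a ≠ b → f⁻¹ * z p * f * z a * z b = f⁻¹ * z q * f → p ≠ q := by
    rintro a b q hab hq rfl
    have h4 : z a * z b = 1 := by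
      have h5 : f⁻¹ * z p * f * (z a * z b) = f⁻¹ * z p * f * 1 := by rw [mul_one, ← mul_assoc]; exact hq
      exact mul_left_cancel h5
    have h5 : z a ∈ C a := by
      rw [mul_eq_one_iff_eq_inv.1 h4]
      exact inv_mem (Z_C c.h.toCr hab (c.zZ b))
    exact not_mem_C c.h.toCr (c.zZ a) (c.zn a) h5
  have n1 := ne hjl.symm k1
  have n2 := ne hjm.symm k2
  have n3 := ne hlm.symm k3
  refine not_mem_C c.h.toCr (c.zZ p) (c.zn p) ?_
  rw [← key2]
  exact mul_mem (mul_mem (Z_C c.h.toCr n1 (c.zZ p1)) (Z_C c.h.toCr n2 (c.zZ p2))) (Z_C c.h.toCr n3 (c.zZ p3))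

/-- the component in `W i` of an element commuting with `tv i` lies in `Z i` -/
theorem comp_Z {i : ι} {w d : G} (hw : w ∈ W i) (hd : d ∈ C i) (ht : tv i * (w * d) = w * d * tv i) : w ∈ Z i := by
  by_contra hwZ
  have h1 := mv_act c.h.toCr (c.tvB i) (c.tvm i) (c.zZ i) (c.zn i) hw hwZ
  have h2 := c.h.AC i (tv i) (c.tvA i) d hd
  have h3 : tv i * (w * d) * (tv i)⁻¹ = w * z i * d := by
    calc tv i * (w * d) * (tv i)⁻¹ = tv i * w * (tv i)⁻¹ * (tv i * d) * (tv i)⁻¹ := by group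
      _ = w * z i * (d * tv i) * (tv i)⁻¹ := by rw [h1, h2]
      _ = _ := by group
  rw [ht, mul_inv_cancel_right] at h3
  have h4 : z i = 1 := by
    have h5 : w * (z i * d) = w * d := by rw [← mul_assoc, ← h3]
    have h6 := mul_left_cancel h5
    exact mul_eq_right.1 h6
  exact c.zn i h4

/-- **(D)** -/
theorem none {f : G} (hf : f ∈ F) {p : ι} (hp : p ∈ r) (hU : f⁻¹ * z p * f ∈ ⨆ j ∈ r, W j)
    (hn : ∀ j ∈ r, tv j * (f⁻¹ * z p * f) = f⁻¹ * z p * f * tv j) : f ∈ M := by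
  have hyV := c.UV hU
  have hyJ : f⁻¹ * z p * f ∈ ZJ := by
    refine c.h.mem_ZJ_of hyV fun i a ha => ?_
    by_cases hi : i ∈ r
    · obtain ⟨w, hw, d, hd, e⟩ := c.h.WC i _ hyV
      have h1 := hn i hi
      rw [e] at h1
      have h2 := c.comp_Z hw hd h1
      have h3 := c.h.AC i a ha d hd
      have h4 : a * w = w * a := by
        rw [(c.h.blk i).cZ a (c.h.AB i ha) w h2]
      have k : Commute a (w * d) := (show Commute a w from h4).mul_right h3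
      rw [e]
      exact k.eq
    · exact c.h.AC i a ha _ (c.UC hi hU)
  obtain ⟨j, hj, hjC⟩ := eq_single c.h.toCr (g := f⁻¹) (c.zZ p) (c.zn p) hyJ (by rw [inv_inv])
  have hjr : j ∈ r := by
    by_contra hjr
    exact hjC (c.UC hjr hU)
  have hy1 : f⁻¹ * z p * f ≠ 1 := fun h1 => hjC (by rw [h1]; exact one_mem _)
  have hyz := c.eqz hj hy1
  obtain ⟨o, ho, e⟩ := c.tr j hjr p hp
  have hoF : o ∈ F := o2_le F ho
  have h1 : o * f⁻¹ ∈ M := by
    refine c.mem_M hp (fun x hx => c.F_cent hx (mul_mem hoF (inv_mem hf))) ?_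
    have e1 : o * f⁻¹ * z p * (o * f⁻¹)⁻¹ = o * (f⁻¹ * z p * f) * o⁻¹ := by group
    rw [e1, hyz, c.gen e]
  have h2 := mul_mem (inv_mem h1) (c.TM (c.O_le ho))
  have e1 : (o * f⁻¹)⁻¹ * o = f := by group
  rwa [e1] at h2

/-- `t z_i ∈ C i` for `t ∈ Z_J`, `t ∉ C i` -/
theorem mul_z_mem {i : ι} {t : G} (ht : t ∈ ZJ) (hti : t ∉ C i) : t * z i ∈ C i := by
  obtain ⟨w, hw, d, hd, -, e⟩ := c.h.split i _ ht
  have hw1 : w ≠ 1 := by
    rintro rfl
    exact hti (by rw [e, one_mul]; exact hd)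
  have h1 := c.eqz hw hw1
  subst h1
  have h2 := c.cV (c.zV i) (c.h.CV i hd)
  rw [e]
  have e1 : z i * d * z i = d * (z i * z i) := by rw [h2]; group
  rw [e1, c.sqV (c.zV i), mul_one]
  exact hd

/-- an element of `W j` outside `Z j` is `L j`-conjugate to `z j` -/
theorem cov {j : ι} {w : G} (hw : w ∈ W j) (hw1 : w ≠ 1) : ∃ x ∈ L j, x * w * x⁻¹ = z j := by
  obtain ⟨x, hx, hwx⟩ := UniPlus.cover_two (nb c.h.toCr j) hw
  rw [mem_cj] at hwx
  refine ⟨x⁻¹, inv_mem hx, ?_⟩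
  rw [inv_inv]
  refine c.eqz hwx fun h1 => hw1 ?_
  have := congrArg (fun t => x * t * x⁻¹) h1
  simpa [mul_assoc] using this

/-- **(E)** two indices -/
theorem two {f : G} (hf : f ∈ F) {i j : ι} (hi : i ∈ r) (hj : j ∈ r) (hij : i ≠ j) (hall : ∀ k ∈ r, k = i ∨ k = j)
    (hU : f⁻¹ * z i * f ∈ ⨆ j ∈ r, W j) (hmv : tv j * (f⁻¹ * z i * f) ≠ f⁻¹ * z i * f * tv j) : f ∈ M := by
  -- decomposition of the elements of `U`
  have hUle : (⨆ j ∈ r, W j) ≤ W i ⊔ W j := iSup₂_le fun k hk => by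
    rcases hall k hk with rfl | rfl
    · exact le_sup_left
    · exact le_sup_right
  have dec : ∀ u ∈ ⨆ j ∈ r, W j, (∀ a ∈ A i, a * u = u * a) → ∃ s ∈ Z i, ∃ w ∈ W j, u = s * w := by
    intro u hu ha
    obtain ⟨s, hs, w, hw, e⟩ := mem_sup_comm (fun s hs w hw => c.cV (c.h.WV i hs) (c.h.WV j hw)) (hUle hu)
    refine ⟨s, c.comp_Z hs (c.h.WjC i j hij hw) ?_, w, hw, e⟩
    have := ha _ (c.tvA i)
    rwa [e] at this
  have LCi : ∀ l ∈ L i, l * z j * l⁻¹ = z j := fun l hl => by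
    rw [c.h.LC i l hl (z j) (c.h.Z_le j (c.zZ j)) (Z_C c.h.toCr hij (c.zZ j))]; group
  have LCj : ∀ l ∈ L j, l * z i * l⁻¹ = z i := fun l hl => by
    rw [c.h.LC j l hl (z i) (c.h.Z_le i (c.zZ i)) (Z_C c.h.toCr (Ne.symm hij) (c.zZ i))]; group
  have no12 : ∀ g : G, ∀ k, g * (z i * z j) * g⁻¹ ≠ z k := fun g k e =>
    no_one_two c.h.toCr hij (c.zZ i) (c.zn i) (c.zZ j) (c.zn j) (c.zZ k) e
  set y : G := f⁻¹ * z i * f with hy
  have hyV := c.UV hU
  -- Step 1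
  obtain ⟨l, hl, hlA⟩ := step c.h i hyV
  obtain ⟨s, hs, w, hw, e1⟩ := dec _ (nWr c.h hi hl hU) hlA
  have hwZ : w ∉ Z j := by
    intro hwZ
    apply hmv
    have h1 : ∀ a ∈ A j, a * (l * y * l⁻¹) = l * y * l⁻¹ * a := by
      intro a ha
      have haB := c.h.AB j ha
      have k1 : Commute a s := c.h.zB (c.h.Z_le i hs) haB
      have k2 : Commute a w := c.h.zB (c.h.Z_le j hwZ) haB
      rw [e1]
      exact (k1.mul_right k2).eq
    have h2 := keep c.h hij (inv_mem hl) (c.UV (nWr c.h hi hl hU)) h1 _ (c.tvA j)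
    have e2 : l⁻¹ * (l * y * l⁻¹) * l⁻¹⁻¹ = y := by group
    rwa [e2] at h2
  obtain ⟨x, hx, hxw⟩ := c.cov hw fun h1 => hwZ (by rw [h1]; exact one_mem _)
  have hs1 : s = 1 := by
    by_contra hs1
    have hsz := c.eqz hs hs1
    refine no12 (f * l⁻¹ * x⁻¹) i ?_
    have h1 : x * (l * y * l⁻¹) * x⁻¹ = z i * z j := by
      rw [e1, hsz]
      have e2 : x * (z i * w) * x⁻¹ = (x * z i * x⁻¹) * (x * w * x⁻¹) := by group
      rw [e2, LCj x hx, hxw]
    rw [← h1, hy]; group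
  rw [hs1, one_mul] at e1
  have hm1 : (x * l) * y * (x * l)⁻¹ = z j := by
    have e2 : (x * l) * y * (x * l)⁻¹ = x * (l * y * l⁻¹) * x⁻¹ := by group
    rw [e2, e1, hxw]
  -- Step 3
  have hzz : z i * z j ∈ ⨆ j ∈ r, W j := mul_mem (c.zU hi) (c.zU hj)
  have hu := nWr c.h hj hx (nWr c.h hi hl hzz)
  obtain ⟨l', hl', hlA'⟩ := step c.h i (c.UV hu)
  obtain ⟨s', hs', w', hw', e2⟩ := dec _ (nWr c.h hi hl' hu) hlA'
  set m : G := l' * (x * l) with hm
  have hmy : m * y * m⁻¹ = z j := by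
    have e3 : m * y * m⁻¹ = l' * ((x * l) * y * (x * l)⁻¹) * l'⁻¹ := by rw [hm]; group
    rw [e3, hm1, LCi l' hl']
  have hmz' : m * (z i * z j) * m⁻¹ = s' * w' := by
    rw [← e2, hm]; group
  have hmz : m * (z i * z j) * m⁻¹ = z i * z j := by
    by_cases hwZ' : w' ∈ Z j
    · by_cases hs1' : s' = 1
      · exfalso
        rw [hs1', one_mul] at hmz'
        have hw1 : w' ≠ 1 := by
          rintro rfl
          apply c.zn j
          have h4 : z i * z j = 1 := by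
            have := congrArg (fun t => m⁻¹ * t * m) hmz'
            simpa [mul_assoc] using this
          have h5 : z j ∈ C j := by
            rw [(mul_eq_one_iff_inv_eq.1 h4).symm]
            exact inv_mem (Z_C c.h.toCr (Ne.symm hij) (c.zZ i))
          exact absurd h5 (not_mem_C c.h.toCr (c.zZ j) (c.zn j))
        rw [c.eqz hwZ' hw1] at hmz'
        exact no12 m j hmz'
      · have hsz := c.eqz hs' hs1'
        by_cases hw1 : w' = 1
        · exfalso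
          rw [hw1, mul_one, hsz] at hmz'
          exact no12 m i hmz'
        · rw [hmz', hsz, c.eqz hwZ' hw1]
    · exfalso
      by_cases hs1' : s' = 1
      · rw [hs1', one_mul] at hmz'
        obtain ⟨x', hx', hxw'⟩ := c.cov hw' fun h1 => hwZ' (by rw [h1]; exact one_mem _)
        refine no12 (x' * m) j ?_
        have e3 : x' * m * (z i * z j) * (x' * m)⁻¹ = x' * (m * (z i * z j) * m⁻¹) * x'⁻¹ := by group
        rw [e3, hmz', hxw']
      · have hsz := c.eqz hs' hs1'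
        -- `y' = f⁻¹ z_j f = y z_i z_j`
        have hcent : f * (z i * z j) = z i * z j * f := by
          refine c.r_cent (mul_mem (c.h.Z_le i (c.zZ i)) (c.h.Z_le j (c.zZ j))) (fun k => ?_) hf
          have h5 : k ∈ {k | z i * z j ∉ C k} ↔ k ∈ ({i, j} : Set ι) := by
            rw [supp_two c.h.toCr hij (c.zZ i) (c.zn i) (c.zZ j) (c.zn j)]
          simp only [Set.mem_setOf_eq, Set.mem_insert_iff, Set.mem_singleton_iff] at h5
          constructor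
          · intro h6 hk
            exact h5.2 (hall k hk) h6
          · intro hk
            by_contra h6
            rcases h5.1 h6 with rfl | rfl
            · exact hk hi
            · exact hk hj
        have hy' : f⁻¹ * z j * f = y * (z i * z j) := by
          have h6 : z j = z i * (z i * z j) := by rw [← mul_assoc, c.sqV (c.zV i), one_mul]
          calc f⁻¹ * z j * f = f⁻¹ * (z i * (z i * z j)) * f := by rw [← h6]
            _ = f⁻¹ * z i * (z i * z j * f) := by group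
            _ = f⁻¹ * z i * (f * (z i * z j)) := by rw [hcent]
            _ = _ := by rw [hy]; group
        have h7 : m * (f⁻¹ * z j * f) * m⁻¹ = z i * (w' * z j) := by
          have e3 : m * (y * (z i * z j)) * m⁻¹ = (m * y * m⁻¹) * (m * (z i * z j) * m⁻¹) := by group
          rw [hy', e3, hmy, hmz', hsz]
          have k1 := c.cV (c.zV j) (mul_mem (c.zV i) (c.h.WV j hw'))
          rw [k1]; group
        have hwz : w' * z j ∉ Z j := fun h8 => hwZ' ((Subgroup.mul_mem_cancel_right _ (c.zZ j)).1 h8)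
        obtain ⟨x', hx', hxw'⟩ := c.cov (mul_mem hw' (Z_W c.h.toCr j (c.zZ j))) fun h1 => hwz (by rw [h1]; exact one_mem _)
        refine no12 (f * m⁻¹ * x'⁻¹) j ?_
        have h8 : x' * (m * (f⁻¹ * z j * f) * m⁻¹) * x'⁻¹ = z i * z j := by
          rw [h7]
          have e3 : x' * (z i * (w' * z j)) * x'⁻¹ = (x' * z i * x'⁻¹) * (x' * (w' * z j) * x'⁻¹) := by group
          rw [e3, LCj x' hx', hxw']
        rw [← h8]; group
  -- the end
  obtain ⟨o, ho, e3⟩ := c.tr j hj i hi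
  have hoF : o ∈ F := o2_le F ho
  have hmLL : m ∈ L i ⊔ L j := mul_mem (mem_sup_left hl') (mul_mem (mem_sup_right hx) (mem_sup_left hl))
  have hmM : m ∈ M := (sup_le (c.LM i) (c.LM j)) hmLL
  have hmT : ∀ t ∈ ZJ ⊓ centralizer (T : Set G), m * t = t * m := by
    rintro t ⟨ht, htT⟩
    have hot : o * t * o⁻¹ = t := by
      rw [mem_centralizer_iff.1 htT o (c.O_le ho)]; group
    have hiff := supp_cj c.h.toCr (c.ON ho) e3 ht
    rw [hot] at hiff
    have key : ∀ t ∈ ZJ, t ∈ C i → t ∈ C j → m * t = t * m := by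
      intro t ht hti htj
      have h5 : L i ⊔ L j ≤ centralizer ({t} : Set G) := by
        refine sup_le (fun l hl => ?_) fun l hl => ?_ <;> rw [mem_centralizer_singleton_iff]
        · exact c.h.LC i l hl t ht hti
        · exact c.h.LC j l hl t ht htj
      exact mem_centralizer_singleton_iff.1 (h5 hmLL)
    by_cases hti : t ∈ C i
    · exact key t ht hti (hiff.1 hti)
    · have htj : t ∉ C j := fun h5 => hti (hiff.2 h5)
      have ht' : t * (z i * z j) ∈ ZJ :=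
        mul_mem ht (mul_mem (c.h.Z_le i (c.zZ i)) (c.h.Z_le j (c.zZ j)))
      have k1 : m * (t * (z i * z j)) = t * (z i * z j) * m := by
        refine key _ ht' ?_ ?_
        · rw [← mul_assoc]
          exact mul_mem (c.mul_z_mem ht hti) (Z_C c.h.toCr hij (c.zZ j))
        · rw [c.cV (c.zV i) (c.zV j), ← mul_assoc]
          exact mul_mem (c.mul_z_mem ht htj) (Z_C c.h.toCr (Ne.symm hij) (c.zZ i))
      have k2 : m * (z i * z j) = z i * z j * m := mul_inv_eq_iff_eq_mul.1 hmz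
      have k3 : Commute m (t * (z i * z j) * (z i * z j)⁻¹) :=
        (show Commute m _ from k1).mul_right (show Commute m _ from k2).inv_right
      rw [mul_inv_cancel_right] at k3
      exact k3.eq
  have hg : o * m * f⁻¹ ∈ M := by
    refine c.mem_M hi (fun t ht => ?_) ?_
    · have k1 : Commute o t := c.F_cent ht hoF
      have k2 : Commute m t := hmT t ht
      have k3 : Commute f⁻¹ t := c.F_cent ht (inv_mem hf)
      exact ((k1.mul_left k2).mul_left k3).eq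
    · have e4 : o * m * f⁻¹ * z i * (o * m * f⁻¹)⁻¹ = o * (m * y * m⁻¹) * o⁻¹ := by rw [hy]; group
      rw [e4, hmy, c.gen e3]
  have h5 := mul_mem (inv_mem hg) (mul_mem (c.TM (c.O_le ho)) hmM)
  have e4 : (o * m * f⁻¹)⁻¹ * (o * m) = f := by group
  rwa [e4] at h5

/-- (TI) for `z_i`. -/
theorem ti_z {f : G} (hf : f ∈ F) {i : ι} (hi : i ∈ r) (hU : f⁻¹ * z i * f ∈ ⨆ j ∈ r, W j) : f ∈ M := by
  by_cases hn : ∀ j ∈ r, tv j * (f⁻¹ * z i * f) = f⁻¹ * z i * f * tv j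
  · exact c.none hf hi hU hn
  push Not at hn
  obtain ⟨j₀, hj₀, hmv⟩ := hn
  have hUp : ∀ p ∈ r, f⁻¹ * z p * f ∈ ⨆ j ∈ r, W j := fun p hp => c.yU hf hi hU hp
  obtain ⟨j, hj, hji⟩ := c.nt i hi
  by_cases h3 : ∃ m ∈ r, m ≠ i ∧ m ≠ j
  · obtain ⟨m, hm, hmi, hmj⟩ := h3
    exact (c.no_three hf hUp hi hi hj hm hji.symm hmi.symm hmj.symm (c.mv_all hf hUp hi hj₀ hi hmv)).elim
  · push Not at h3
    refine c.two hf hi hj hji.symm (fun k hk => ?_) hU (c.mv_all hf hUp hi hj₀ hj hmv)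
    by_contra hcon
    push Not at hcon
    exact hcon.2 (h3 k hk hcon.1)

/-- **(TI)** -/
theorem ti {f : G} (hf : f ∈ F) {i : ι} (hi : i ∈ r) {x : G} (hx : x ∈ W i) (hx1 : x ≠ 1)
    (hxf : f⁻¹ * x * f ∈ ⨆ j ∈ r, W j) : f ∈ M := by
  by_cases hxZ : x ∈ Z i
  · rw [c.eqz hxZ hx1] at hxf
    exact c.ti_z hf hi hxf
  refine c.ti_z hf hi ?_
  -- all elements `o x o⁻¹` have their conjugate in `U`
  have horb : ∀ o ∈ o2 F, f⁻¹ * (o * x * o⁻¹) * f ∈ ⨆ j ∈ r, W j := by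
    intro o ho
    have h1 := c.nU (c.OF' ho hf) hxf
    have e1 : f⁻¹ * o * f * (f⁻¹ * x * f) * (f⁻¹ * o * f)⁻¹ = f⁻¹ * (o * x * o⁻¹) * f := by group
    rwa [e1] at h1
  obtain ⟨j, hj, hji⟩ := c.nt i hi
  obtain ⟨o, ho, e⟩ := c.tr i hi j hj
  have hW := W_cj c.h.toCr (c.ON ho) e
  set x' : G := o * x * o⁻¹ with hx'
  have hxj : x' ∈ W j := by rw [← hW]; exact ⟨x, hx, rfl⟩
  have htx : tv i * x' = x' * tv i := c.h.AC i _ (c.tvA i) _ (c.h.WjC i j hji.symm hxj)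
  have hF : tv i ∈ F := c.TF (c.hp.BT (c.tvB i))
  have h1 := mv_act c.h.toCr (c.tvB i) (c.tvm i) (c.zZ i) (c.zn i) hx hxZ
  set o' : G := (tv i * o * (tv i)⁻¹)⁻¹ * o with ho'
  have hoO : o' ∈ o2 F := mul_mem (inv_mem (c.OF ho hF)) ho
  have h2 : o' * x * o'⁻¹ = x * z i := by
    have h3 : (tv i * o * (tv i)⁻¹) * (tv i * x * (tv i)⁻¹) * (tv i * o * (tv i)⁻¹)⁻¹ = x' := by
      have e1 : (tv i * o * (tv i)⁻¹) * (tv i * x * (tv i)⁻¹) * (tv i * o * (tv i)⁻¹)⁻¹ =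
        tv i * (o * x * o⁻¹) * (tv i)⁻¹ := by group
      rw [e1, ← hx', htx]; group
    rw [h1] at h3
    have e1 : o' * x * o'⁻¹ = (tv i * o * (tv i)⁻¹)⁻¹ * (o * x * o⁻¹) * (tv i * o * (tv i)⁻¹) := by
      rw [ho']; group
    rw [e1, ← hx', ← h3]; group
  have h3 := horb _ hoO
  rw [h2] at h3
  have h4 := mul_mem (inv_mem hxf) h3
  have e1 : (f⁻¹ * x * f)⁻¹ * (f⁻¹ * (x * z i) * f) = f⁻¹ * z i * f := by group
  rwa [e1] at h4

end Ctx


end CrA

end Cfsg.Agent.Omega.OM.SwapV
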