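import Cfsg.Agent.Omega.OM.SwapV.MainN
import Cfsg.Agent.Omega.OM.SwapK.Blk
import Cfsg.Agent.Omega.NO1.JMin
import Cfsg.Agent.Omega.OM.SwapT.QuietL

/-!
# `BMH K B M C_G(Ω₁Z(S)^g)` from the pairs `T ≤ S`, `Y ≤ C_G(Ω₁Z(S))`

* `CrA.exists_conj_S` : `B ≤ T ≤ C_G(Ω₁Z(S)^g)`, `T` a 2-group ⟹ `T ≤ S^x`, `Ω₁Z(S)^x = Ω₁Z(S)^g` for an
  `x ∈ N_G(B)`;
* `CrA.bmh_of` : the reduction; `CrA.bmh_wl` : for `K = nxt S Q`, `B = BK S Q`.
-/

set_option autoImplicit false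
set_option linter.unusedSectionVars false

namespace Cfsg.Agent.Omega.OM.SwapV

open Subgroup Cfsg Cfsg.Agent.ZN.ChoiceBase Cfsg.Agent.ZN.ChoiceSit
open Cfsg.Agent.ZN (jj zj bau zc zl o2)
open Cfsg.Agent.MinSimple.MinParabolic (IsMinPar)
open Cfsg.Agent.Omega.OM.SwapK (WL BK ZK)
open Cfsg.Agent.Omega.NO3S.Level (nxt wc_nxt)

universe u

variable {G : Type u} [Group G] [Finite G]

namespace CrA

open Cr

variable {ι : Type} {S : Sylow 2 G} {K B V ZJ : Subgroup G} {L W Z C A : ι → Subgroup G}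

/-- A 2-group `T ≥ B` of `C_G(Ω₁Z(S)^g)` lies in `S^x` with `x ∈ N_G(B)`, `Ω₁Z(S)^x = Ω₁Z(S)^g`. -/
theorem exists_conj_S (h : CrA S K B V ZJ L W Z C A) {g : G} {T : Subgroup G} (hT : IsPGroup 2 T) (hB : B ≤ T)
    (hc : T ≤ centralizer (cj g (zc (S : Subgroup G)) : Set G)) :
    ∃ x ∈ normalizer (B : Set G), T ≤ cj x (S : Subgroup G) ∧
      cj x (zc (S : Subgroup G)) = cj g (zc (S : Subgroup G)) := by
  have hgS : cj g (S : Subgroup G) ≤ centralizer (cj g (zc (S : Subgroup G)) : Set G) := by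
    rw [← cj_centralizer]
    refine cj_mono g fun s hs => ?_
    rw [mem_centralizer_iff]
    exact fun z hz => ((mem_zc.1 hz).2.2 s hs).symm
  have h1 : Syl (cj g (S : Subgroup G)) (centralizer (cj g (zc (S : Subgroup G)) : Set G)) := by
    refine ⟨hgS, S.isPGroup'.map _, fun R _ hR hle => ?_⟩
    have h2 : (S : Subgroup G) ≤ cj g⁻¹ R := by
      have := cj_mono g⁻¹ hle
      rwa [cj_inv_cj] at this
    have h3 : cj g⁻¹ R = (S : Subgroup G) := S.is_maximal' (hR.map _) h2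
    rw [← h3, cj_cj_inv]
  obtain ⟨R, hR, hTR⟩ := exists_syl hT hc
  obtain ⟨c, hcc, hcR⟩ := syl_conj h1 hR
  have hTS : T ≤ cj (c * g) (S : Subgroup G) := by
    rw [← cj_cj, hcR]
    exact hTR
  have hx : c * g ∈ normalizer (B : Set G) := by
    have h3 : cj (c * g)⁻¹ B ≤ (S : Subgroup G) := by
      have := cj_mono (c * g)⁻¹ (hB.trans hTS)
      rwa [cj_inv_cj] at this
    have h4 := h.wc _ S.isPGroup' h.lb.BS _ h3
    have h5 := inv_mem (mem_normalizer_iff_cj.2 h4)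
    rwa [inv_inv] at h5
  refine ⟨c * g, hx, hTS, ?_⟩
  rw [← cj_cj]
  refine cj_eq_of_mem_normalizer ?_
  exact centralizer_le_normalizer _ hcc

/-- **`BMH` inside `C_G(Ω₁Z(S)^g)` from the pairs `(T, Y)`, `T ≤ S`, `Y ≤ C_G(Ω₁Z(S))`.** -/
theorem bmh_of (h : CrA S K B V ZJ L W Z C A) (hK : ∀ g ∈ normalizer (B : Set G), cj g K = K) {M : Subgroup G}
    (hN : normalizer (B : Set G) ≤ M)
    (h0 : ∀ T Y : Subgroup G, Syl T Y → B ≤ T → T ≤ (S : Subgroup G) → IsMinPar T Y →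
      Y ≤ centralizer (zc (S : Subgroup G) : Set G) → Y ⊓ centralizer (o2 Y : Set G) ≤ o2 Y →
      ¬ K ≤ o2 Y → ¬ Y ≤ centralizer (zc T : Set G) → Y ≤ M) :
    ∀ g ∈ normalizer (B : Set G), BMH K B M (centralizer (cj g (zc (S : Subgroup G)) : Set G)) := by
  intro g _ T Y hT hB hP hYc hch hn hZ
  obtain ⟨x, hx, hTx, hzx⟩ := h.exists_conj_S hT.2.1 hB (hT.1.trans hYc)
  have hxi : x⁻¹ ∈ normalizer (B : Set G) := inv_mem hx
  have hxB : cj x⁻¹ B = B := mem_normalizer_iff_cj.1 hxi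
  have ho2 : o2 (cj x⁻¹ Y) = cj x⁻¹ (o2 Y) := o2_cj _ _
  have h2 : cj x⁻¹ Y ≤ M := by
    refine h0 (cj x⁻¹ T) (cj x⁻¹ Y) (NO1.JMin.syl_cj hT x⁻¹) ?_ ?_ (OM.SwapT.QuietL.isMinPar_cj x⁻¹ hP) ?_ ?_ ?_ ?_
    · have := cj_mono x⁻¹ hB
      rwa [hxB] at this
    · have := cj_mono x⁻¹ hTx
      rwa [cj_inv_cj] at this
    · have := cj_mono x⁻¹ hYc
      rwa [cj_centralizer, ← hzx, cj_inv_cj] at this
    · rw [ho2]
      have := cj_mono x⁻¹ hch
      rwa [cj_inf, cj_centralizer] at this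
    · intro hcon
      apply hn
      rw [ho2] at hcon
      have := cj_mono x hcon
      rwa [cj_cj_inv, hK x hx] at this
    · intro hcon
      apply hZ
      have := cj_mono x hcon
      rwa [cj_cj_inv, cj_centralizer, ← NO3S.Level.zc_cj, cj_cj_inv] at this
  have h3 := cj_mono x h2
  rw [cj_cj_inv] at h3
  exact h3.trans (cj_eq_of_mem_normalizer (le_normalizer (hN hx))).le

variable {Q : Subgroup G}

/-- `bmh_of` at the level `Q`. -/
theorem bmh_wl (hw : WL S Q) (h : CrA S (nxt (S : Subgroup G) Q) (BK (S : Subgroup G) Q) V ZJ L W Z C A)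
    {M : Subgroup G} (hN : normalizer (BK (S : Subgroup G) Q : Set G) ≤ M)
    (h0 : ∀ T Y : Subgroup G, Syl T Y → BK (S : Subgroup G) Q ≤ T → T ≤ (S : Subgroup G) → IsMinPar T Y →
      Y ≤ centralizer (zc (S : Subgroup G) : Set G) → Y ⊓ centralizer (o2 Y : Set G) ≤ o2 Y →
      ¬ nxt (S : Subgroup G) Q ≤ o2 Y → ¬ Y ≤ centralizer (zc T : Set G) → Y ≤ M) :
    ∀ g ∈ normalizer (BK (S : Subgroup G) Q : Set G),
      BMH (nxt (S : Subgroup G) Q) (BK (S : Subgroup G) Q) M (centralizer (cj g (zc (S : Subgroup G)) : Set G)) :=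
  h.bmh_of (fun _ hg => LevD.norm_of_wc (wc_nxt hw.wc) h.lb.Bp h.lb.KB hg) hN h0

end CrA

end Cfsg.Agent.Omega.OM.SwapV
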