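import Cfsg.Agent.Omega.OM.Lev.Low.FrTwo

/-!
# (LL) for `q = 2` inside `C_G(c)`, `c ∈ Z_J` of full support, over `FrL` only

* `norm`, `two_norm` : `N_G(B)` and the 2-groups over `B` normalise `V`;
* `qv` : `YB.QV`; `lowZ` : `SwapL.LowZ S n c` for every `c ∈ Z_J` of full support.
-/

set_option autoImplicit false

namespace Cfsg.Agent.Omega.OM.SwapV.LowZ

open Subgroup Cfsg Cfsg.Agent.ZN.ChoiceBase Cfsg.Agent.ZN.ChoiceSit
open Cfsg.Agent.ZN (jj zj bau zc zl o2)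
open Cfsg.Agent.MinSimple.MinParabolic (IsMinPar)
open Cfsg.Agent.Omega.NO3S.Level (lev Lev lev_isLev)
open Cfsg.Agent.Omega.OM.Lev.Uni (FrL)
open Cfsg.Agent.Omega.OM.SwapL (ZL BL lb)

universe u

variable {G : Type u} [Group G] [Finite G] {ι : Type} [Finite ι] {S : Sylow 2 G} {V Q : Subgroup G} {n : ℕ}
  {L W Z C A : ι → Subgroup G} {q : ℕ}

/-- **(U1)** -/
theorem norm (h : FrL (BL (S : Subgroup G) n) Q V (zc (lev (S : Subgroup G) n)) (ZL (S : Subgroup G) n) L W Z C A q)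
    {g : G} (hg : g ∈ normalizer (BL (S : Subgroup G) n : Set G)) :
    cj g V = V ∧ ∀ i, ∃ j, cj g (Z i) = Z j ∧ cj g (W i) ≤ W j ⊔ ZL (S : Subgroup G) n :=
  h.norm_of hg (NO3S.Level.normalizer_le_zc _ (SwapL.norm_lev S (by omega) hg))

/-- a 2-group over `B` normalises `V`. -/
theorem two_norm
    (h : FrL (BL (S : Subgroup G) n) Q V (zc (lev (S : Subgroup G) n)) (ZL (S : Subgroup G) n) L W Z C A q)
    {T : Subgroup G} (hT : IsPGroup 2 T) (hB : BL (S : Subgroup G) n ≤ T) : T ≤ normalizer (V : Set G) := by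
  intro t ht
  rw [mem_normalizer_iff_cj]
  exact (norm h ((lb S n).two_le hT hB ht)).1

/-- **`QV`** -/
theorem qv
    (h : FrL (BL (S : Subgroup G) n) Q V (zc (lev (S : Subgroup G) n)) (ZL (S : Subgroup G) n) L W Z C A q)
    {T : Subgroup G} (hT : IsPGroup 2 T) (hB : BL (S : Subgroup G) n ≤ T) {j : ℕ} (hj : j ≤ n) :
    Lev.Low.YB.QV T (zc (lev (S : Subgroup G) j)) Q V where
  QT := h.QB.trans hB
  TQ := by
    intro t ht
    have h1 := (lb S n).two_le hT hB ht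
    have h2 := two_norm h hT hB ht
    have e : Q = BL (S : Subgroup G) n ⊓ centralizer (V : Set G) := by
      ext x
      rw [mem_inf, mem_centralizer_iff]
      constructor
      · intro hx
        exact ⟨h.QB hx, fun v hv => ((h.mem_Q x (h.QB hx)).1 hx v hv).symm⟩
      · rintro ⟨hx, hx'⟩
        exact (h.mem_Q x hx).2 fun v hv => (hx' v hv).symm
    rw [mem_normalizer_iff_cj, e, cj_inf, cj_centralizer, cj_eq_of_mem_normalizer h1, cj_eq_of_mem_normalizer h2]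
  mem := by
    intro x
    have hVX : V ≤ zc (lev (S : Subgroup G) j) :=
      h.VX.trans ((lev_isLev (S : Subgroup G) j).zc_le_zc (NO3S.Level.lev_mono _ hj) (NO3S.Level.lev_le _ n))
    constructor
    · exact fun hx => ⟨hVX hx, fun q hq => (h.mem_Q q (h.QB hq)).1 hq x hx⟩
    · rintro ⟨hx, hxQ⟩
      have h1 : x ∈ (S : Subgroup G) := NO3S.Level.lev_le _ j (mem_zc.1 hx).1
      have h2 : x ∈ BL (S : Subgroup G) n :=
        ⟨h1, mem_centralizer_iff.2 fun z hz => hxQ z (h.VQ (h.ZJV hz))⟩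
      have h3 : x ∈ Q := (h.mem_Q x h2).2 fun v hv => (hxQ v (h.VQ hv)).symm
      exact h.zcQ x h3 (mem_zc.1 hx).2.1 fun y hy => (hxQ y hy).symm
  two := hT

/-- **LL inside `C_G(c)`, `c` of full support.** -/
theorem lowZ
    (h : FrL (BL (S : Subgroup G) n) Q V (zc (lev (S : Subgroup G) n)) (ZL (S : Subgroup G) n) L W Z C A 2)
    {c : G} (hc : c ∈ ZL (S : Subgroup G) n) (hcf : ∀ i, c ∉ C i) : SwapL.LowZ S n c := by
  intro T Y hT hB hY hYc hch hn
  by_contra hZ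
  obtain ⟨j, hj, hlow, hnj⟩ := Lev.Low.exists_stg (S : Subgroup G) hn
  have hBj : LevB.BL (S : Subgroup G) j ≤ T := (Lev.Low.BL_mono (S : Subgroup G) (by omega : j ≤ n + 1)).trans hB
  obtain ⟨Λ, _, N, c', hy, ⟨l, hl⟩, hcN⟩ := Lev.Low.exists_ybj_cent S hT hBj hY hch hlow hnj hZ
  have hV := qv h hT.2.1 hB hj
  have hcX : c ∈ zc (lev (S : Subgroup G) j) := hV.VX (h.ZJV hc)
  have h1 := Lev.Low.no_low_two h hy hV hB hc hcf
    (hcN c hcX fun y hy' => mem_centralizer_singleton_iff.1 (hYc hy')) l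
  exact hl ((Lev.Low.zc_T_le S hT.2.1 hB).trans h1)

end Cfsg.Agent.Omega.OM.SwapV.LowZ
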