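import Cfsg.Agent.Omega.OM.SwapV.Core
import Cfsg.Agent.Omega.OM.Swap.End
import Cfsg.Agent.Omega.OM.SwapL.Main

/-!
# THEOREM SW over an abstract frame `Cr S K B V ZJ L W Z C`: the situation `SitF`

`M ≥ C_G(Z_J), L_i, N_G(B)`, `BM K B M`. If some subgroup `H ≥ B` of characteristic 2 is not contained in `M`, then there is
a pair `(T, F)` with `|Phi(T)|` maximal and one `O₂(F)`-orbit of indices for which `SitF` holds, which is false.

* `Cr.exists_max`, `Cr.exists_sit`; `Cr.le_of_char2` : **THEOREM SW**;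
* `Cr.noOm` : (Om) is impossible: `K0` normalises no nontrivial 2-subgroup.
-/

set_option autoImplicit false

namespace Cfsg.Agent.Omega.OM.SwapV

open Subgroup Cfsg Cfsg.Agent.ZN.ChoiceBase Cfsg.Agent.ZN.ChoiceSit
open Cfsg.Agent.ZN (jj zj bau zc zl o2)
open Cfsg.Agent.MinSimple.MinParabolic (IsMinPar)
open Cfsg.Agent.Omega.OM.LevD (LB K0 Fam)
open Cfsg.Agent.Omega.OM.LevB (FBlk)
open Cfsg.Agent.Omega.OM.Swap.Fam (Fm SitF)
open Cfsg.Agent.Omega.OM.Swap (char2_cent)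
open Cfsg.Agent.Omega.OM.SwapL (cj_mul_eq cj_inv_eq Phi SitFFalse)

universe u

variable {G : Type u} [Group G] [Finite G]

/-- an orbit of `O₂(F)` on the indices with at least two elements -/
structure Orb {ι : Type} (ZJ T F : Subgroup G) (Z C : ι → Subgroup G) (r : Set ι) : Prop where
  two : ∃ i ∈ r, ∃ j ∈ r, i ≠ j
  tr : ∀ i ∈ r, ∀ j ∈ r, ∃ o ∈ o2 F, cj o (Z i) = Z j
  inv : ∀ o ∈ o2 F, ∀ i j, cj o (Z i) = Z j → (i ∈ r ↔ j ∈ r)
  suppF : ∀ x ∈ ZJ, (∀ i, x ∈ C i ↔ i ∉ r) → ∀ f ∈ F, f * x = x * f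
  rT : ∀ t ∈ T, ∀ i j, cj t (Z i) = Z j → i ∈ r → j ∈ r
  rPhi : ∀ j ∈ r, j ∉ Phi Z T

namespace Cr

variable {ι : Type} [Finite ι] {S : Sylow 2 G} {K B V ZJ : Subgroup G} {L W Z C : ι → Subgroup G}

/-- `O₂(F)` moves some index -/
theorem exists_orb (h : Cr S K B V ZJ L W Z C) {M T F : Subgroup G} (hp : Pair K B V ZJ M T F)
    (hD : centralizer (ZJ : Set G) ≤ M) : ∃ r : Set ι, Orb ZJ T F Z C r := by
  classical
  have hTN : T ≤ normalizer (B : Set G) := h.lb.two_le hp.syl.2.1 hp.BT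
  have hO : o2 F ≤ T := o2_le_syl hp.syl
  have hON : o2 F ≤ normalizer (B : Set G) := hO.trans hTN
  have hTF : T ≤ F := hp.syl.1
  choose z hz hz1 using Z_ne h
  -- an index moved by `O₂(F)`
  obtain ⟨i₀, o₀, ho₀, hmv⟩ : ∃ i, ∃ o ∈ o2 F, cj o (Z i) ≠ Z i := by
    by_contra hcon
    push Not at hcon
    apply hp.nM
    have h1 : ZJ ≤ centralizer (F : Set G) := by
      intro x hx
      refine hp.fix ⟨hx, mem_centralizer_iff.2 fun o ho => ?_⟩
      refine comm_of_supp h (hON ho) hx fun i j e => ?_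
      rw [hcon i o ho] at e
      rw [Z_inj h e]
    exact (le_centralizer_iff.1 h1).trans hD
  -- its orbit
  set r : Set ι := {j | ∃ o ∈ o2 F, cj o (Z i₀) = Z j} with hr
  have hrO : ∀ o ∈ o2 F, ∀ i j, cj o (Z i) = Z j → (i ∈ r ↔ j ∈ r) := by
    intro o ho i j e
    constructor
    · rintro ⟨o', ho', e'⟩
      exact ⟨o * o', mul_mem ho ho', cj_mul_eq e' e⟩
    · rintro ⟨o', ho', e'⟩
      exact ⟨o⁻¹ * o', mul_mem (inv_mem ho) ho', cj_mul_eq e' (cj_inv_eq e)⟩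
  have hi₀ : i₀ ∈ r := ⟨1, one_mem _, cj_one _⟩
  obtain ⟨j₀, hj₀, -⟩ := perm h (hON ho₀) i₀
  have hj₀r : j₀ ∈ r := ⟨o₀, ho₀, hj₀⟩
  have hne₀ : i₀ ≠ j₀ := by
    rintro rfl
    exact hmv hj₀
  -- elements of `Z_J` with support `r` are centralised by `F`
  have hsuppF : ∀ x ∈ ZJ, (∀ i, x ∈ C i ↔ i ∉ r) → ∀ f ∈ F, f * x = x * f := by
    intro x hx hxs f hf
    refine mem_centralizer_iff.1 (hp.fix ⟨hx, mem_centralizer_iff.2 fun o ho => ?_⟩) f hf
    refine comm_of_supp h (hON ho) hx fun i j e => ?_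
    rw [hxs i, hxs j, hrO o ho i j e]
  obtain ⟨xr, hxr, hxrs⟩ := exists_supp h r
  -- `T` stabilises `r`
  have hrT : ∀ t ∈ T, ∀ i j, cj t (Z i) = Z j → i ∈ r → j ∈ r := by
    intro t ht i j e hi
    by_contra hj
    have h1 := (supp_cj h (hTN ht) e hxr).1
    have h2 := hsuppF xr hxr hxrs t (hTF ht)
    have h3 : t * xr * t⁻¹ = xr := by rw [h2]; group
    rw [h3] at h1
    exact (hxrs i).1 (h1 ((hxrs j).2 hj)) hi
  -- `r` and `Phi(T)` are disjoint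
  have hrPhi : ∀ j ∈ r, j ∉ Phi Z T := by
    rintro j ⟨o, ho, e⟩ hj
    apply hmv
    have h1 := hj (o * o₀ * o⁻¹) (hO (mul_mem (mul_mem ho ho₀) (inv_mem ho)))
    rw [← e, cj_cj] at h1
    have h2 : cj o⁻¹ (cj (o * o₀ * o⁻¹ * o) (Z i₀)) = cj o⁻¹ (cj o (Z i₀)) := by rw [h1]
    rw [cj_cj, cj_inv_cj] at h2
    have e2 : o⁻¹ * (o * o₀ * o⁻¹ * o) = o₀ := by group
    rwa [e2] at h2
  refine ⟨r, ⟨i₀, hi₀, j₀, hj₀r, hne₀⟩, ?_, hrO, hsuppF, hrT, hrPhi⟩
  rintro i ⟨o, ho, e⟩ j ⟨o', ho', e'⟩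
  exact ⟨o' * o⁻¹, mul_mem ho' (inv_mem ho), cj_mul_eq (cj_inv_eq e) e'⟩

/-- A pair with `|Phi(T)|` maximal; `C_G(Z₀ z_j) ≤ M` for `j ∉ Phi(T)`. -/
theorem exists_max (h : Cr S K B V ZJ L W Z C) {M H : Subgroup G} (hBM : BM K B M)
    (hD : centralizer (ZJ : Set G) ≤ M) (hN : normalizer (B : Set G) ≤ M)
    (hB : B ≤ H) (hc : H ⊓ centralizer (o2 H : Set G) ≤ o2 H) (hM : ¬ H ≤ M) :
    ∃ T F : Subgroup G, Pair K B V ZJ M T F ∧ ∀ j, j ∉ Phi Z T →
      centralizer (((⨆ i ∈ Phi Z T, Z i) ⊔ Z j : Subgroup G) : Set G) ≤ M := by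
  classical
  have hS2 : IsPGroup 2 ZJ := h.lb.Bp.to_le h.lb.ZB
  -- choose
  let s : Set ℕ := {m | ∃ T F : Subgroup G, Pair K B V ZJ M T F ∧ (Phi Z T).ncard = m}
  have hs1 : s.Nonempty := by
    obtain ⟨T, F, hp, -⟩ := exists_pair h hBM hD hN hB hc hM
    exact ⟨_, T, F, hp, rfl⟩
  have hs2 : s.Finite := by
    refine (Set.finite_Iic (Nat.card ι)).subset ?_
    rintro m ⟨T, F, -, rfl⟩
    rw [Set.mem_Iic, ← Set.ncard_univ]
    exact Set.ncard_le_ncard (Set.subset_univ _)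
  obtain ⟨m, hm⟩ := hs2.exists_maximal hs1
  obtain ⟨T, F, hp, hcard⟩ := hm.prop
  refine ⟨T, F, hp, fun j hj => ?_⟩
  by_contra hcon
  set X : Subgroup G := (⨆ i ∈ Phi Z T, Z i) ⊔ Z j with hX
  have hXJ : X ≤ ZJ :=
    sup_le (iSup_le fun i => iSup_le fun _ => h.Z_le i) (h.Z_le j)
  have hX1 : X ≠ ⊥ := by
    intro e
    obtain ⟨z, hz, hz1⟩ := Z_ne h j
    have h1 : z ∈ X := mem_sup_right hz
    rw [e, mem_bot] at h1
    exact hz1 h1
  have hBX : B ≤ centralizer (X : Set G) :=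
    h.lb.Bc.trans (centralizer_le (by exact_mod_cast hXJ))
  obtain ⟨T', F', hp', hle⟩ := exists_pair h hBM hD hN hBX
    (char2_cent h.char2 (hS2.to_le hXJ) hX1) hcon
  have hfix : ∀ i, Z i ≤ X → i ∈ Phi Z T' := by
    intro i hi t ht
    have h1 := hle (hp'.syl.1 ht)
    refine cj_eq_of_mem_normalizer (centralizer_le_normalizer _ ?_)
    exact centralizer_le (by exact_mod_cast hi) h1
  have hsub : insert j (Phi Z T) ⊆ Phi Z T' := by
    rintro i (rfl | hi)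
    · exact hfix _ le_sup_right
    · exact hfix _ (le_sup_of_le_left (le_iSup₂ (f := fun i (_ : i ∈ Phi Z T) => Z i) i hi))
  have h2 : m + 1 ≤ (Phi Z T').ncard := by
    rw [← hcard, ← Set.ncard_insert_of_notMem hj (Set.toFinite _)]
    exact Set.ncard_le_ncard hsub (Set.toFinite _)
  have h3 : (Phi Z T').ncard ≤ m := hm.le_of_ge ⟨T', F', hp', rfl⟩ (by show m ≤ (Phi Z T').ncard; omega)
  omega

omit [Finite ι] in
/-- `V` commutes with its conjugates under `F` if `V ≤ O₂(F)`, `B ≤ T`. -/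
theorem comm_of_pair (h : Cr S K B V ZJ L W Z C) {M T F : Subgroup G} (hp : Pair K B V ZJ M T F) {f : G} (hf : f ∈ F)
    {x y : G} (hx : x ∈ V) (hy : y ∈ V) : x * (f * y * f⁻¹) = f * y * f⁻¹ * x := by
  have hO : o2 F ≤ T := o2_le_syl hp.syl
  have hcO : cj f (o2 F) = o2 F := cj_eq_of_mem_normalizer (le_normalizer_o2 F hf)
  refine h.noff T hp.syl.2.1 hp.BT f ?_ ?_ x hx y hy
  · have := cj_mono f hp.VO
    rw [hcO] at this
    exact this.trans hO
  · have := cj_mono f hO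
    rw [hcO] at this
    exact hp.VO.trans this

/-- **STEP 0**, from (TI). -/
theorem sit_of (h : Cr S K B V ZJ L W Z C) {M T F : Subgroup G} (hp : Pair K B V ZJ M T F)
    (hD : centralizer (ZJ : Set G) ≤ M) (hN : normalizer (B : Set G) ≤ M) {r : Set ι} (hr : Orb ZJ T F Z C r)
    (hti : ∀ i ∈ r, ∀ x ∈ W i, x ≠ 1 → ∀ f ∈ F, x ∈ cj f (⨆ j ∈ r, W j) → f ∈ M) :
    ∃ (T F F₀ : Subgroup G) (𝓐 : Set (Subgroup G)) (κ : Type) (V' : κ → Subgroup G) (z : κ → G),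
      SitF F T F₀ 𝓐 V' z := by
  classical
  have hZM : normalizer (ZJ : Set G) ≤ M := h.lb.norm_zj_le.trans (sup_le hD hN)
  have hTN : T ≤ normalizer (B : Set G) := h.lb.two_le hp.syl.2.1 hp.BT
  have hTM : T ≤ M := hTN.trans hN
  have hO : o2 F ≤ T := o2_le_syl hp.syl
  have hON : o2 F ≤ normalizer (B : Set G) := hO.trans hTN
  have hTF : T ≤ F := hp.syl.1
  obtain ⟨𝓐, hfam, hnJ, hXB, hhat⟩ := h.fam M T F hp hD hZM hTM
  choose z hz hz1 using Z_ne h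
  obtain ⟨⟨i₀, hi₀, j₀, hj₀r, hne₀⟩, htr, hrO, hsuppF, hrT, hrPhi⟩ := hr
  have hsup : (⨆ j : r, W j) = ⨆ j ∈ r, W j := iSup_subtype' (f := fun j (_ : j ∈ r) => W j) |>.symm
  have hWV : ∀ i, W i ≤ V := h.WV
  have hcomm : ∀ f ∈ F, ∀ x ∈ V, ∀ y ∈ V,
      x * (f * y * f⁻¹) = f * y * f⁻¹ * x := fun f hf x hx y hy => comm_of_pair h hp hf hx hy
  -- `Λ = ⟨V^F⟩` is elementary abelian
  have hVel : IsElementaryAbelian 2 (NoFF.Basic.V (V) F) := by
    have h1 := Swap.elab_iSup (W := fun f : F => cj (f : G) (V)) (fun f f' x hx y hy => ?_)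
      fun f x hx => ?_
    · exact Swap.elab_of h1.1 h1.2
    · rw [mem_cj] at hx hy
      have h2 := hcomm ((f : G)⁻¹ * f') (mul_mem (inv_mem f.2) f'.2) _ hx _ hy
      have e1 : (f : G)⁻¹ * f' * ((f' : G)⁻¹ * y * f') * ((f : G)⁻¹ * f')⁻¹ = (f : G)⁻¹ * y * f := by group
      rw [e1] at h2
      have h3 := congrArg (fun t => (f : G) * t * (f : G)⁻¹) h2
      have e2 : (f : G) * ((f : G)⁻¹ * x * f * ((f : G)⁻¹ * y * f)) * (f : G)⁻¹ = x * y := by group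
      have e3 : (f : G) * ((f : G)⁻¹ * y * f * ((f : G)⁻¹ * x * f)) * (f : G)⁻¹ = y * x := by group
      exact e2.symm.trans (h3.trans e3)
    · rw [mem_cj] at hx
      have h2 := SQ1.Bau.elem_sq h.el _ hx
      rw [pow_two] at h2
      have e : x * x = f * ((f : G)⁻¹ * x * f * ((f : G)⁻¹ * x * f)) * (f : G)⁻¹ := by group
      rw [e, h2]; group
  have hUV : (⨆ j : r, W j) ≤ V := iSup_le fun j => hWV j
  have hLV : NoFF.Basic.V (⨆ j : r, W j) F ≤ NoFF.Basic.V (V) F :=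
    NoFF.Basic.V_le fun f hf => (cj_mono f hUV).trans (NoFF.Basic.Z_le_V hf)
  have hUF : (⨆ j : r, W j) ≤ F := hUV.trans (hp.VO.trans (o2_le F))
  refine ⟨T, F, F ⊓ M, 𝓐, r, fun i => W i, fun i => z i, ?_⟩
  refine
    { syl := hp.syl
      TF₀ := le_inf hTF hTM
      F₀F := lt_of_le_of_ne inf_le_left fun e => hp.nM (inf_eq_left.1 e)
      max := fun K hTK hKF => le_inf hKF.le (hp.min K hTK hKF)
      fam := hfam _ (Swap.elab_mono hVel hLV) ?_ OmThm.XD.X_le_normalizer_W hLV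
      nJ := hnJ
      fin := inferInstance
      two := ⟨⟨i₀, hi₀⟩, ⟨j₀, hj₀r⟩, fun e => hne₀ (congrArg Subtype.val e)⟩
      card := fun i => by rw [(h.blk i).card, h.cardZ]
      zV := fun i => Z_W h _ (hz i)
      z1 := fun i => hz1 i
      VO := fun i => (hWV i).trans hp.VO
      sq := fun i x hx => by
        rw [← pow_two]
        exact SQ1.Bau.elem_sq h.el x (hWV i hx)
      comm := fun f hf i j x hx y hy => comm_of_pair h hp hf (hWV i hx) (hWV j hy)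
      ind := ?_
      perm := ?_
      tr := ?_
      nor := ?_
      hat := ?_
      mov := ?_
      zc := ?_
      ti := ?_ }
  · refine NoFF.Basic.V_le fun f hf => ?_
    have := cj_mono f hUF
    rwa [cj_eq_of_mem_normalizer (le_normalizer hf)] at this
  · rintro ⟨i, hi⟩ x hx hx'
    have h1 : (⨆ j : r, ⨆ _ : j ≠ ⟨i, hi⟩, W j) ≤ C i := by
      refine iSup_le fun j => iSup_le fun hj => ?_
      exact h.WjC i j fun e => hj (Subtype.ext e.symm)
    have h2 : x ∈ W i ⊓ C i := mem_inf.2 ⟨hx, h1 hx'⟩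
    rwa [h.dir i, mem_bot] at h2
  · rintro t ht ⟨i, hi⟩
    obtain ⟨j, h1, h2, -⟩ := perm h (hTN ht) i
    exact ⟨⟨j, hrT t ht i j h1 hi⟩, h2, conj_gen h h1 (hz i) (hz1 i) (hz j) (hz1 j)⟩
  · rintro ⟨i, hi⟩ ⟨j, hj⟩
    obtain ⟨o, ho, e⟩ := htr i hi j hj
    exact ⟨o, ho, W_cj h (hON ho) e⟩
  · rintro X hX hXT a ha ⟨i, hi⟩
    have hb := hXB X hX hXT ha
    have key : ∀ b ∈ B, cj b (W i) ≤ W i := by
      rintro b hb _ ⟨w, hw, rfl⟩
      exact (h.blk i).BV hb hw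
    refine le_antisymm (key a hb) ?_
    have := cj_mono a (key a⁻¹ (inv_mem hb))
    rwa [cj_cj_inv] at this
  · rintro X hX hXT ⟨i, hi⟩ hmv'
    obtain ⟨a, ha, h1, h2⟩ := hhat X hX hXT i hmv'
    exact ⟨a, ha, h1, fun j hj x hx => h2 j (fun e => hj (Subtype.ext e)) x hx⟩
  · rintro ⟨i, hi⟩
    obtain ⟨a, ha, ⟨v, hv, hne⟩, hac⟩ := h.mov i
    refine ⟨a, hp.BT ha, ⟨v, hv, hne⟩, fun j hj x hx => ?_⟩
    exact hac x (h.WjC i j (fun e => hj (Subtype.ext e.symm)) hx)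
  · rintro ⟨i, hi⟩ ⟨j, hj⟩ hij hall f hf
    have hij' : i ≠ j := fun e => hij (Subtype.ext e)
    have hall' : ∀ k ∈ r, k = i ∨ k = j := by
      intro k hk
      rcases hall ⟨k, hk⟩ with e | e
      · exact Or.inl (congrArg Subtype.val e)
      · exact Or.inr (congrArg Subtype.val e)
    refine hsuppF (z i * z j) (mul_mem (h.Z_le i (hz i)) (h.Z_le j (hz j))) (fun k => ?_) f hf
    by_cases hki : k = i
    · subst hki
      rw [Subgroup.mul_mem_cancel_right _ (Z_C h hij' (hz j))]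
      exact ⟨fun h1 => absurd h1 (not_mem_C h (hz k) (hz1 k)), fun h1 => absurd hi h1⟩
    · by_cases hkj : k = j
      · subst hkj
        rw [Subgroup.mul_mem_cancel_left _ (Z_C h hki (hz i))]
        exact ⟨fun h1 => absurd h1 (not_mem_C h (hz k) (hz1 k)), fun h1 => absurd hj h1⟩
      · refine ⟨fun _ hk => ?_, fun _ => mul_mem (Z_C h hki (hz i)) (Z_C h hkj (hz j))⟩
        rcases hall' k hk with e | e
        · exact hki e
        · exact hkj e
  · rintro ⟨i, hi⟩ x hx hx1 f hf hxf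
    rw [hsup] at hxf
    exact mem_inf.2 ⟨hf, hti i hi x hx hx1 f hf hxf⟩

/-- **STEP 0.** -/
theorem exists_sit (h : Cr S K B V ZJ L W Z C) {M H : Subgroup G} (hBM : BM K B M) (hLM : ∀ i, L i ≤ M)
    (hD : centralizer (ZJ : Set G) ≤ M) (hN : normalizer (B : Set G) ≤ M)
    (hB : B ≤ H) (hc : H ⊓ centralizer (o2 H : Set G) ≤ o2 H) (hM : ¬ H ≤ M) :
    ∃ (T F F₀ : Subgroup G) (𝓐 : Set (Subgroup G)) (κ : Type) (V' : κ → Subgroup G) (z : κ → G),
      SitF F T F₀ 𝓐 V' z := by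
  classical
  obtain ⟨T, F, hp, hcen⟩ := exists_max h hBM hD hN hB hc hM
  obtain ⟨r, hr⟩ := exists_orb h hp hD
  have hrPhi := hr.rPhi
  have hSM : (S : Subgroup G) ≤ M := (h.lb.two_le S.isPGroup' h.lb.BS).trans hN
  have hTN : T ≤ normalizer (B : Set G) := h.lb.two_le hp.syl.2.1 hp.BT
  have hO : o2 F ≤ T := o2_le_syl hp.syl
  choose z hz hz1 using Z_ne h
  -- the group `Z₀`
  set Z₀ : Subgroup G := ⨆ i ∈ Phi Z T, Z i with hZ₀
  have hZ₀J : Z₀ ≤ ZJ := iSup_le fun i => iSup_le fun _ => h.Z_le i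
  have hFZ₀ : F ≤ centralizer (Z₀ : Set G) := by
    rw [le_centralizer_iff]
    refine iSup_le fun i => iSup_le fun hi x hx => ?_
    refine hp.fix ⟨h.Z_le i hx, mem_centralizer_iff.2 fun o ho => ?_⟩
    exact cent_of_cj h (hi o (hO ho)) hx
  have hBZ₀ : B ≤ centralizer (Z₀ : Set G) :=
    h.lb.Bc.trans (centralizer_le (by exact_mod_cast hZ₀J))
  have hLZ₀ : ∀ j ∈ r, L j ≤ centralizer (Z₀ : Set G) := by
    intro j hj
    rw [le_centralizer_iff]
    refine iSup_le fun i => iSup_le fun hi x hx => ?_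
    rw [mem_centralizer_iff]
    intro l hl
    have hij : j ≠ i := by
      rintro rfl
      exact hrPhi _ hj hi
    exact h.LC j l hl x (h.Z_le i hx) (Z_C h hij hx)
  -- (TI)
  have hti : ∀ i ∈ r, ∀ x ∈ W i, x ≠ 1 → ∀ f ∈ F, x ∈ cj f (⨆ j ∈ r, W j) → f ∈ M := by
    intro i hi x hx hx1 f hf hxf
    obtain ⟨l, hl, hxl⟩ := UniPlus.cover_two (nb h i) hx
    rw [mem_cj] at hxl hxf
    -- `C_G(Z₀ x) ≤ M`
    have hcx : ∀ u, u ∈ centralizer (Z₀ : Set G) → u * x = x * u → u ∈ M := by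
      intro u hu hux
      have h1 : l⁻¹ * u * l ∈ M := by
        refine hcen i (hrPhi i hi) ?_
        rw [mem_centralizer_iff]
        intro y hy
        have h2 : ((⨆ i ∈ Phi Z T, Z i) ⊔ Z i : Subgroup G) ≤ centralizer ({l⁻¹ * u * l} : Set G) := by
          refine sup_le ?_ fun y hy => ?_
          · have h3 : l⁻¹ * u * l ∈ centralizer (Z₀ : Set G) :=
              mul_mem (mul_mem (inv_mem (hLZ₀ i hi hl)) hu) (hLZ₀ i hi hl)
            intro y hy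
            rw [mem_centralizer_singleton_iff]
            exact mem_centralizer_iff.1 h3 y hy
          · rw [mem_centralizer_singleton_iff]
            by_cases hy1 : y = 1
            · rw [hy1]; simp
            have h3 : l⁻¹ * x * l ≠ 1 := fun h4 => hx1 (by
              have h5 := congrArg (fun t => l * t * l⁻¹) h4
              simpa [mul_assoc] using h5)
            have h4 := Z_eq h hy hxl hy1 h3
            rw [h4]
            have h5 := congrArg (fun t => l⁻¹ * t * l) hux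
            simpa [mul_assoc] using h5.symm
        exact mem_centralizer_singleton_iff.1 (h2 hy)
      have h2 := mul_mem (mul_mem (hLM i hl) h1) (inv_mem (hLM i hl))
      have e : l * (l⁻¹ * u * l) * l⁻¹ = u := by group
      rwa [e] at h2
    obtain ⟨m, hm, hmx'⟩ := h.conjZ r _ hxf
    have hmx : m * (f⁻¹ * x * f) * m⁻¹ ∈ ZJ :=
      (iSup₂_le fun i _ => h.Z_le i : (⨆ i ∈ r, Z i) ≤ ZJ) hmx'
    have hmM : m ∈ M := (iSup₂_le fun i (_ : i ∈ r) => hLM i : (⨆ i ∈ r, L i) ≤ M) hm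
    have hmZ : m ∈ centralizer (Z₀ : Set G) :=
      (iSup₂_le fun i (hi : i ∈ r) => hLZ₀ i hi : (⨆ i ∈ r, L i) ≤ centralizer (Z₀ : Set G)) hm
    have hg : f * m⁻¹ ∈ M := by
      refine mem_of_cj_B_le h hSM hN ?_
      rintro _ ⟨b, hb, rfl⟩
      refine hcx _ ?_ ?_
      · have hgZ : f * m⁻¹ ∈ centralizer (Z₀ : Set G) := mul_mem (hFZ₀ hf) (inv_mem hmZ)
        exact mul_mem (mul_mem hgZ (hBZ₀ hb)) (inv_mem hgZ)
      · have h1 := mem_centralizer_iff.1 (h.lb.Bc hb) _ hmx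
        change (f * m⁻¹) * b * (f * m⁻¹)⁻¹ * x = x * ((f * m⁻¹) * b * (f * m⁻¹)⁻¹)
        have h2 := congrArg (fun t => (f * m⁻¹) * t * (f * m⁻¹)⁻¹) h1
        have e1 : (f * m⁻¹) * (m * (f⁻¹ * x * f) * m⁻¹ * b) * (f * m⁻¹)⁻¹ =
          x * ((f * m⁻¹) * b * (f * m⁻¹)⁻¹) := by group
        have e2 : (f * m⁻¹) * (b * (m * (f⁻¹ * x * f) * m⁻¹)) * (f * m⁻¹)⁻¹ =
          (f * m⁻¹) * b * (f * m⁻¹)⁻¹ * x := by group
        have h3 : (f * m⁻¹) * (m * (f⁻¹ * x * f) * m⁻¹ * b) * (f * m⁻¹)⁻¹ =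
            (f * m⁻¹) * (b * (m * (f⁻¹ * x * f) * m⁻¹)) * (f * m⁻¹)⁻¹ := by
          first
            | exact h2
            | exact h2.symm
        rw [e1, e2] at h3
        exact h3.symm
    have h3 := mul_mem hg hmM
    have e : f * m⁻¹ * m = f := by group
    rwa [e] at h3
  exact sit_of h hp hD hN hr hti

/-- **THEOREM SW** over an abstract frame. -/
theorem le_of_char2' (hs : SitFFalse.{u}) (h : Cr S K B V ZJ L W Z C) {M H : Subgroup G} (hBM : BM K B M)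
    (hLM : ∀ i, L i ≤ M) (hD : centralizer (ZJ : Set G) ≤ M) (hN : normalizer (B : Set G) ≤ M)
    (hB : B ≤ H) (hc : H ⊓ centralizer (o2 H : Set G) ≤ o2 H) : H ≤ M := by
  by_contra hM
  obtain ⟨T, F, F₀, 𝓐, κ, V', z, hS⟩ := exists_sit h hBM hLM hD hN hB hc hM
  exact hs G F T F₀ 𝓐 κ V' z hS

/-- **THEOREM SW** over an abstract frame: every subgroup of characteristic 2 over `B` is contained in every
`M ≥ C_G(Z_J), L_i, N_G(B)`, if the minimal parabolics over `T ≥ B` which move `Ω₁Z(T)` are. -/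
theorem le_of_char2 (h : Cr S K B V ZJ L W Z C) {M H : Subgroup G} (hBM : BM K B M)
    (hLM : ∀ i, L i ≤ M) (hD : centralizer (ZJ : Set G) ≤ M) (hN : normalizer (B : Set G) ≤ M)
    (hB : B ≤ H) (hc : H ⊓ centralizer (o2 H : Set G) ≤ o2 H) : H ≤ M :=
  le_of_char2' SwapL.sitFFalse h hBM hLM hD hN hB hc

/-- `K0 = ⟨C_G(Z_J), blocks⟩` normalises no 2-group `R ≠ 1`, if no 2-group `≠ 1` is normalised by `C_G(Ω₁Z(S))` and all
members of `Pr` (parabolics over `S` which move `Ω₁Z(S)`). -/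
theorem noOm (h : Cr S K B V ZJ L W Z C) (hF : Fam B ZJ (FBlk B))
    (hLM : ∀ i, L i ≤ K0 ZJ (FBlk B))
    (hBM : ∀ M : Subgroup G, K0 ZJ (FBlk B) ≤ M → normalizer (B : Set G) ≤ M → o2 M ≠ ⊥ → BM K B M)
    {Pr : Subgroup G → Prop}
    (hPr : ∀ P, Pr P → Syl (S : Subgroup G) P ∧ IsMinPar (S : Subgroup G) P ∧
      P ⊓ centralizer (o2 P : Set G) ≤ o2 P ∧ ¬ P ≤ centralizer (zc (S : Subgroup G) : Set G))
    (hnon : ∀ R : Subgroup G, IsPGroup 2 R → (∀ P, Pr P → P ≤ normalizer (R : Set G)) →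
      centralizer (zc (S : Subgroup G) : Set G) ≤ normalizer (R : Set G) → R = ⊥) :
    ∀ R : Subgroup G, IsPGroup 2 R → K0 ZJ (FBlk B) ≤ normalizer (R : Set G) → R = ⊥ := by
  by_contra hcon
  push Not at hcon
  obtain ⟨R, hR, hRn, hR1⟩ := hcon
  obtain ⟨ho, hoB, hle⟩ := hF.dich h.lb hR hR1 hRn
  set O : Subgroup G := o2 (K0 ZJ (FBlk B)) with hO
  set M : Subgroup G := normalizer (O : Set G) with hM
  have hK : K0 ZJ (FBlk B) ≤ M := le_sup_left.trans hle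
  have hN : normalizer (B : Set G) ≤ M := le_sup_right.trans hle
  have hSM : (S : Subgroup G) ≤ M := (h.lb.two_le S.isPGroup' h.lb.BS).trans hN
  have hoM : o2 M ≠ ⊥ := by
    intro e
    apply ho
    have h1 : O ≤ o2 M := le_o2 (isPGroup_o2 _) le_normalizer le_rfl
    rw [e] at h1
    exact le_bot_iff.1 h1
  have hD : centralizer (ZJ : Set G) ≤ M := LevD.cent_le_K0.trans hK
  have hZM : normalizer (ZJ : Set G) ≤ M := h.lb.norm_zj_le.trans (sup_le hD hN)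
  have hB := hBM M hK hN hoM
  have hB1 : B ≠ ⊥ := by
    intro e
    apply hoM
    have h0 : o2 M ≤ (S : Subgroup G) := o2_le_syl ⟨hSM, S.isPGroup', fun Q _ hQ h' => S.is_maximal' hQ h'⟩
    have h1 : zc (S : Subgroup G) ≤ B := h.zcS.trans h.lb.ZB
    rw [e, le_bot_iff] at h1
    have h2 : (S : Subgroup G) = ⊥ := by
      by_contra h3
      exact MinSimple.Basic.zc_ne_bot S.isPGroup' h3 h1
    rw [h2] at h0
    exact le_bot_iff.1 h0
  have hS1 : (S : Subgroup G) ≠ ⊥ := fun e => hB1 (by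
    have := h.lb.BS
    rw [e] at this
    exact le_bot_iff.1 this)
  have h1 := MinPar.isLoc_centralizer_zc S hS1
  have h2 : centralizer (zc (S : Subgroup G) : Set G) ≤ M :=
    le_of_char2 h hB (fun i => (hLM i).trans hK) hD hN (h.lb.BS.trans h1.le) (h1.char2 S h.char2)
  refine ho (hnon _ (isPGroup_o2 _) (fun P hP => ?_) h2)
  obtain ⟨hSP, hmP, hcP, hzP⟩ := hPr P hP
  by_cases hKP : K ≤ o2 P
  · exact ((le_normalizer_o2 P).trans (h.lb.nrm _ (isPGroup_o2 P) hKP)).trans hZM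
  · exact hB S P hSP h.lb.BS hmP hcP hKP hzP

end Cr

end Cfsg.Agent.Omega.OM.SwapV
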