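import Cfsg.Agent.Omega.OM.SwapV.TI

/-!
# THEOREM SW over an abstract frame, inside `C_G(c)`, `c ∈ Z_J` of full support

The minimal parabolics which move `Ω₁Z(T)` are needed only inside `C_G(c)` (`BMH K B M (C_G(c))`).

* `CrA.exists_full`, `CrA.full_mem` : an element `c ∈ Ω₁Z(S)` of full support;
* `CrA.exists_maxZ` : a pair with `|C_ZJ(T)|` maximal, `C_G(C_ZJ(T) z_j) ≤ M` for the moved indices `j`;
* `CrA.le_of_char2Z` : **THEOREM SW**, inside `C_G(c)`; `CrA.cz_le` : `C_G(Ω₁Z(S)) ≤ M`;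
* `CrA.noOmZ` : (Om) is impossible.
-/

set_option autoImplicit false
set_option linter.unusedSectionVars false

namespace Cfsg.Agent.Omega.OM.SwapV

open Subgroup Cfsg Cfsg.Agent.ZN.ChoiceBase Cfsg.Agent.ZN.ChoiceSit
open Cfsg.Agent.ZN (jj zj bau zc zl o2)
open Cfsg.Agent.MinSimple.MinParabolic (IsMinPar)
open Cfsg.Agent.Omega.OM.LevD (LB K0 Fam)
open Cfsg.Agent.Omega.OM.LevB (FBlk)
open Cfsg.Agent.Omega.OM.Swap.Fam (Fm SitF)
open Cfsg.Agent.Omega.OM.Swap (char2_cent)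
open Cfsg.Agent.Omega.OM.SwapL (cj_mul_eq cj_inv_eq Phi)

universe u

variable {G : Type u} [Group G] [Finite G]

namespace CrA

open Cr

variable {ι : Type} [Finite ι] {S : Sylow 2 G} {K B V ZJ : Subgroup G} {L W Z C A : ι → Subgroup G}

/-- an element of full support -/
theorem exists_full (h : CrA S K B V ZJ L W Z C A) : ∃ c ∈ ZJ, ∀ i, c ∉ C i := by
  obtain ⟨c, hc, hs⟩ := exists_supp h.toCr Set.univ
  exact ⟨c, hc, fun i hi => (hs i).1 hi (Set.mem_univ i)⟩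

/-- it lies in `Ω₁Z(S)` -/
theorem full_mem (h : CrA S K B V ZJ L W Z C A) {c : G} (hc : c ∈ ZJ) (hcf : ∀ i, c ∉ C i) :
    c ∈ zc (S : Subgroup G) :=
  mem_zc.2 ⟨h.lb.BS (h.lb.ZB hc), h.lb.sq c hc, fun _ hs =>
    full_cent h.toCr hc hcf S.isPGroup' h.lb.BS hs⟩

/-- A pair with `|C_ZJ(T)|` maximal; `C_G(C_ZJ(T) z_j) ≤ M` for `j ∉ Phi(T)`. -/
theorem exists_maxZ (h : CrA S K B V ZJ L W Z C A) {M H : Subgroup G} {c : G} (hc : c ∈ ZJ)
    (hcf : ∀ i, c ∉ C i) (hBM : BMH K B M (centralizer ({c} : Set G)))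
    (hD : centralizer (ZJ : Set G) ≤ M) (hN : normalizer (B : Set G) ≤ M)
    (hB : B ≤ H) (hH : H ≤ centralizer ({c} : Set G))
    (hch : H ⊓ centralizer (o2 H : Set G) ≤ o2 H) (hM : ¬ H ≤ M) :
    ∃ T F : Subgroup G, Pair K B V ZJ M T F ∧ ∀ j, j ∉ Phi Z T →
      centralizer ((ZJ ⊓ centralizer (T : Set G) ⊔ Z j : Subgroup G) : Set G) ≤ M := by
  classical
  have hS2 : IsPGroup 2 ZJ := h.lb.Bp.to_le h.lb.ZB
  have hBMH : ∀ H' : Subgroup G, H' ≤ centralizer ({c} : Set G) → BMH K B M H' := fun H' hH' T Y hT hB' hY hYH =>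
    hBM T Y hT hB' hY (hYH.trans hH')
  -- choose
  let s : Set ℕ := {m | ∃ T F : Subgroup G, Pair K B V ZJ M T F ∧
    Nat.card (ZJ ⊓ centralizer (T : Set G) : Subgroup G) = m}
  have hs1 : s.Nonempty := by
    obtain ⟨T, F, hp, -⟩ := exists_pairH h.toCr (hBMH H hH) hD hN hB hch hM
    exact ⟨_, T, F, hp, rfl⟩
  have hs2 : s.Finite := by
    refine (Set.finite_Iic (Nat.card ZJ)).subset ?_
    rintro m ⟨T, F, -, rfl⟩
    rw [Set.mem_Iic]
    exact Nat.card_mono (Set.toFinite _) (inf_le_left : ZJ ⊓ centralizer (T : Set G) ≤ _)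
  obtain ⟨m, hm⟩ := hs2.exists_maximal hs1
  obtain ⟨T, F, hp, hcard⟩ := hm.prop
  refine ⟨T, F, hp, fun j hj => ?_⟩
  by_contra hcon
  set X : Subgroup G := ZJ ⊓ centralizer (T : Set G) ⊔ Z j with hX
  have hXJ : X ≤ ZJ := sup_le inf_le_left (h.Z_le j)
  have hX1 : X ≠ ⊥ := by
    intro e
    obtain ⟨z, hz, hz1⟩ := Z_ne h.toCr j
    have h1 : z ∈ X := mem_sup_right hz
    rw [e, mem_bot] at h1
    exact hz1 h1
  have hcX : c ∈ X := by
    refine mem_sup_left (mem_inf.2 ⟨hc, mem_centralizer_iff.2 fun t ht => ?_⟩)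
    exact full_cent h.toCr hc hcf hp.syl.2.1 hp.BT ht
  have hXc : centralizer (X : Set G) ≤ centralizer ({c} : Set G) :=
    centralizer_le (Set.singleton_subset_iff.2 hcX)
  have hBX : B ≤ centralizer (X : Set G) :=
    h.lb.Bc.trans (centralizer_le (by exact_mod_cast hXJ))
  obtain ⟨T', F', hp', hle⟩ := exists_pairH h.toCr (hBMH _ hXc) hD hN hBX
    (char2_cent h.char2 (hS2.to_le hXJ) hX1) hcon
  have hsub : X ≤ ZJ ⊓ centralizer (T' : Set G) :=
    le_inf hXJ (le_centralizer_iff.1 (hp'.syl.1.trans hle))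
  have hlt : ZJ ⊓ centralizer (T : Set G) < X := by
    refine lt_of_le_of_ne le_sup_left fun e => hj fun t ht => ?_
    refine cj_eq_of_mem_normalizer (centralizer_le_normalizer _ ?_)
    have h1 : Z j ≤ centralizer (T : Set G) := by
      have h2 : Z j ≤ ZJ ⊓ centralizer (T : Set G) := by
        rw [e]; exact le_sup_right
      exact h2.trans inf_le_right
    exact le_centralizer_iff.1 h1 ht
  have h2 : m < Nat.card (ZJ ⊓ centralizer (T' : Set G) : Subgroup G) := by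
    rw [← hcard]
    refine lt_of_lt_of_le (lt_of_not_ge fun hge => hlt.ne (Subgroup.eq_of_le_of_card_ge hlt.le hge))
      (Nat.card_mono (Set.toFinite _) (hsub : (X : Set G) ⊆ _))
  exact absurd (hm.le_of_ge ⟨T', F', hp', rfl⟩ h2.le) (not_le.2 h2)

/-- **STEP 0.** -/
theorem exists_sitZ (h : CrA S K B V ZJ L W Z C A) {M H : Subgroup G} {c : G} (hc : c ∈ ZJ)
    (hcf : ∀ i, c ∉ C i) (hBM : BMH K B M (centralizer ({c} : Set G))) (hLM : ∀ i, L i ≤ M)
    (hD : centralizer (ZJ : Set G) ≤ M) (hN : normalizer (B : Set G) ≤ M)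
    (hB : B ≤ H) (hH : H ≤ centralizer ({c} : Set G))
    (hch : H ⊓ centralizer (o2 H : Set G) ≤ o2 H) (hM : ¬ H ≤ M) :
    ∃ (T F F₀ : Subgroup G) (𝓐 : Set (Subgroup G)) (κ : Type) (V' : κ → Subgroup G) (z : κ → G),
      SitF F T F₀ 𝓐 V' z := by
  classical
  obtain ⟨T, F, hp, hcen⟩ := exists_maxZ h hc hcf hBM hD hN hB hH hch hM
  obtain ⟨r, hr⟩ := exists_orb h.toCr hp hD
  choose z hz hz1 using Z_ne h.toCr
  choose tv htvA htvm using exists_tv h
  obtain ⟨i₀, hi₀, j₀, hj₀r, hne₀⟩ := hr.two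
  have hctx : Ctx S K B V ZJ L W Z C A M T F r z tv :=
    { h := h
      hp := hp
      LM := hLM
      NM := hN
      cen := fun i hi => hcen i (hr.rPhi i hi)
      zZ := hz
      zn := hz1
      tvA := htvA
      tvm := htvm
      tr := hr.tr
      inv := hr.inv
      nt := fun i _ => by
        by_cases hi : i = i₀
        · exact ⟨j₀, hj₀r, fun e => hne₀ (by rw [← hi, e])⟩
        · exact ⟨i₀, hi₀, fun e => hi e.symm⟩ }
  refine sit_of h.toCr hp hD hN hr fun i hi x hx hx1 f hf hxf => ?_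
  rw [mem_cj] at hxf
  exact hctx.ti hf hi hx hx1 hxf

/-- **THEOREM SW** over an abstract frame, inside `C_G(c)`. -/
theorem le_of_char2Z (h : CrA S K B V ZJ L W Z C A) {M H : Subgroup G} {c : G}
    (hc : c ∈ ZJ) (hcf : ∀ i, c ∉ C i) (hBM : BMH K B M (centralizer ({c} : Set G)))
    (hLM : ∀ i, L i ≤ M) (hD : centralizer (ZJ : Set G) ≤ M) (hN : normalizer (B : Set G) ≤ M)
    (hB : B ≤ H) (hH : H ≤ centralizer ({c} : Set G))
    (hch : H ⊓ centralizer (o2 H : Set G) ≤ o2 H) : H ≤ M := by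
  by_contra hM
  obtain ⟨T, F, F₀, 𝓐, κ, V', z, hS⟩ := exists_sitZ h hc hcf hBM hLM hD hN hB hH hch hM
  exact hS.false

/-- `C_G(Ω₁Z(S)) ≤ M` -/
theorem cz_le (h : CrA S K B V ZJ L W Z C A) {M : Subgroup G} {c : G}
    (hc : c ∈ ZJ) (hcf : ∀ i, c ∉ C i) (hBM : BMH K B M (centralizer ({c} : Set G)))
    (hLM : ∀ i, L i ≤ M) (hD : centralizer (ZJ : Set G) ≤ M) (hN : normalizer (B : Set G) ≤ M)
    (hS1 : (S : Subgroup G) ≠ ⊥) : centralizer (zc (S : Subgroup G) : Set G) ≤ M := by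
  have h1 := MinPar.isLoc_centralizer_zc S hS1
  exact le_of_char2Z h hc hcf hBM hLM hD hN (h.lb.BS.trans h1.le)
    (centralizer_le (Set.singleton_subset_iff.2 (full_mem h hc hcf))) (h1.char2 S h.char2)

/-- **(Om) is impossible**: `K0 = ⟨C_G(Z_J), blocks⟩` normalises no 2-group `R ≠ 1`, if no 2-group `≠ 1` is normalised by
`C_G(Ω₁Z(S))` and all members of `Pr` (parabolics over `S` which move `Ω₁Z(S)`). -/
theorem noOmZ (h : CrA S K B V ZJ L W Z C A) (hF : Fam B ZJ (FBlk B))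
    (hLM : ∀ i, L i ≤ K0 ZJ (FBlk B)) {c : G} (hc : c ∈ ZJ) (hcf : ∀ i, c ∉ C i)
    (hBM : ∀ M : Subgroup G, K0 ZJ (FBlk B) ≤ M → normalizer (B : Set G) ≤ M → o2 M ≠ ⊥ →
      BMH K B M (centralizer ({c} : Set G)))
    {Pr : Subgroup G → Prop}
    (hPr : ∀ P, Pr P → K ≤ o2 P ∨ P ≤ K0 ZJ (FBlk B) ⊔ (S : Subgroup G))
    (hnon : ∀ R : Subgroup G, IsPGroup 2 R → (∀ P, Pr P → P ≤ normalizer (R : Set G)) →
      centralizer (zc (S : Subgroup G) : Set G) ≤ normalizer (R : Set G) → R = ⊥) :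
    ∀ R : Subgroup G, IsPGroup 2 R → K0 ZJ (FBlk B) ≤ normalizer (R : Set G) → R = ⊥ := by
  by_contra hcon
  push Not at hcon
  obtain ⟨R, hR, hRn, hR1⟩ := hcon
  obtain ⟨ho, hoB, hle⟩ := hF.dich h.lb hR hR1 hRn
  set O : Subgroup G := o2 (K0 ZJ (FBlk B)) with hO
  set M : Subgroup G := normalizer (O : Set G) with hM
  have hK : K0 ZJ (FBlk B) ≤ M := le_sup_left.trans hle
  have hN : normalizer (B : Set G) ≤ M := le_sup_right.trans hle
  have hSM : (S : Subgroup G) ≤ M := (h.lb.two_le S.isPGroup' h.lb.BS).trans hN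
  have hoM : o2 M ≠ ⊥ := by
    intro e
    apply ho
    have h1 : O ≤ o2 M := le_o2 (isPGroup_o2 _) le_normalizer le_rfl
    rw [e] at h1
    exact le_bot_iff.1 h1
  have hD : centralizer (ZJ : Set G) ≤ M := LevD.cent_le_K0.trans hK
  have hZM : normalizer (ZJ : Set G) ≤ M := h.lb.norm_zj_le.trans (sup_le hD hN)
  have hS1 : (S : Subgroup G) ≠ ⊥ := fun e => ho (by
    have h1 := hoB.trans h.lb.BS
    rw [e] at h1
    exact le_bot_iff.1 h1)
  have h2 := cz_le h hc hcf (hBM M hK hN hoM) (fun i => (hLM i).trans hK) hD hN hS1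
  refine ho (hnon _ (isPGroup_o2 _) (fun P hP => ?_) h2)
  rcases hPr P hP with hKP | h3
  · exact ((le_normalizer_o2 P).trans (h.lb.nrm _ (isPGroup_o2 P) hKP)).trans hZM
  · exact h3.trans (sup_le hK hSM)

end CrA

end Cfsg.Agent.Omega.OM.SwapV
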